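import Mathlib

/-! The diagonal part of a tensor product of graded algebras is a direct summand. -/

set_option autoImplicit false
universe u

open DirectSum TensorProduct

namespace Groth.Agent.H83.SegreNoeth

variable {k : Type u} [Field k] {R S : Type u} [CommRing R] [Algebra k R] [CommRing S] [Algebra k S]
  (𝒜 : ℤ → Submodule k R) [GradedAlgebra 𝒜] (ℬ : ℤ → Submodule k S) [GradedAlgebra ℬ]

/-- Projection to a graded piece of `S`. -/
noncomputable def projB (i : ℤ) : S →ₗ[k] S :=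
  (ℬ i).subtype ∘ₗ (DirectSum.component k ℤ (fun j => ℬ j) i) ∘ₗ (decomposeLinearEquiv ℬ).toLinearMap

/-- The diagonal projection. -/
noncomputable def diagProj : R ⊗[k] S →ₗ[k] R ⊗[k] S :=
  TensorProduct.lift
    ((DirectSum.toModule k ℤ (S →ₗ[k] R ⊗[k] S) fun i =>
      (LinearMap.lcomp k (R ⊗[k] S) (projB ℬ i)) ∘ₗ (TensorProduct.mk k R S) ∘ₗ (𝒜 i).subtype) ∘ₗ
      (decomposeLinearEquiv 𝒜).toLinearMap)

theorem diagProj_tmul {i j : ℤ} {a : R} {b : S} (ha : a ∈ 𝒜 i) (hb : b ∈ ℬ j) :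
    diagProj 𝒜 ℬ (a ⊗ₜ[k] b) = if i = j then a ⊗ₜ[k] b else 0 := by
  have hda : decomposeLinearEquiv 𝒜 a = DirectSum.lof k ℤ (fun j => 𝒜 j) i ⟨a, ha⟩ := by
    rw [decomposeLinearEquiv_apply, decompose_of_mem 𝒜 ha]; rfl
  simp only [diagProj, TensorProduct.lift.tmul, LinearMap.coe_comp, Function.comp_apply,
    LinearEquiv.coe_coe, hda, DirectSum.toModule_lof, LinearMap.lcomp_apply, TensorProduct.mk_apply,
    Submodule.subtype_apply, projB, decomposeLinearEquiv_apply, DirectSum.component,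
    DFinsupp.lapply_apply]
  split_ifs with h
  · subst h
    exact congrArg (fun z => a ⊗ₜ[k] z) (decompose_of_mem_same ℬ hb)
  · have h0 : ((decompose ℬ b) i : S) = 0 := decompose_of_mem_ne ℬ hb (Ne.symm h)
    exact (congrArg (fun z => a ⊗ₜ[k] z) h0).trans (TensorProduct.tmul_zero _ a)

/-- The diagonal subspace. -/
def diag : Submodule k (R ⊗[k] S) :=
  ⨆ n : ℤ, Submodule.span k {x | ∃ a ∈ 𝒜 n, ∃ b ∈ ℬ n, x = a ⊗ₜ[k] b}

omit [GradedAlgebra 𝒜] [GradedAlgebra ℬ] in
theorem tmul_mem_diag {n : ℤ} {a : R} {b : S} (ha : a ∈ 𝒜 n) (hb : b ∈ ℬ n) :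
    a ⊗ₜ[k] b ∈ diag 𝒜 ℬ :=
  Submodule.mem_iSup_of_mem n (Submodule.subset_span ⟨a, ha, b, hb, rfl⟩)

theorem hom_induction {P : R ⊗[k] S → Prop} (h0 : P 0) (hadd : ∀ x y, P x → P y → P (x + y))
    (hhom : ∀ i j a b, a ∈ 𝒜 i → b ∈ ℬ j → P (a ⊗ₜ[k] b)) (x : R ⊗[k] S) : P x := by
  induction x using TensorProduct.induction_on with
  | zero => exact h0
  | add x y hx hy => exact hadd x y hx hy
  | tmul a b =>
    induction a using DirectSum.Decomposition.inductionOn 𝒜 with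
    | zero => rw [TensorProduct.zero_tmul]; exact h0
    | add u v hu hv => rw [TensorProduct.add_tmul]; exact hadd _ _ hu hv
    | @homogeneous i a =>
      induction b using DirectSum.Decomposition.inductionOn ℬ with
      | zero => rw [TensorProduct.tmul_zero]; exact h0
      | add u v hu hv => rw [TensorProduct.tmul_add]; exact hadd _ _ hu hv
      | @homogeneous j b => exact hhom i j a b a.2 b.2

theorem diagProj_mem (x : R ⊗[k] S) : diagProj 𝒜 ℬ x ∈ diag 𝒜 ℬ := by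
  refine hom_induction 𝒜 ℬ (P := fun x => diagProj 𝒜 ℬ x ∈ diag 𝒜 ℬ)
    (by rw [map_zero]; exact zero_mem _) (fun x y hx hy => by rw [map_add]; exact add_mem hx hy) (fun i j a b ha hb => ?_) x
  rw [diagProj_tmul 𝒜 ℬ ha hb]
  split_ifs with h
  · exact tmul_mem_diag 𝒜 ℬ ha (h ▸ hb)
  · exact zero_mem _

theorem diagProj_mul {w : R ⊗[k] S} (hw : w ∈ diag 𝒜 ℬ) (y : R ⊗[k] S) :
    diagProj 𝒜 ℬ (w * y) = w * diagProj 𝒜 ℬ y := by
  induction hw using Submodule.iSup_induction' with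
  | zero => simp
  | add u v _ _ hu hv => rw [add_mul, map_add, hu, hv, add_mul]
  | mem n x hx =>
    induction hx using Submodule.span_induction with
    | zero => simp
    | add u v _ _ hu hv => rw [add_mul, map_add, hu, hv, add_mul]
    | smul c u _ hu => rw [smul_mul_assoc, map_smul, hu, smul_mul_assoc]
    | mem x hx =>
      obtain ⟨a, ha, b, hb, rfl⟩ := hx
      refine hom_induction 𝒜 ℬ (P := fun y => diagProj 𝒜 ℬ (a ⊗ₜ[k] b * y) = a ⊗ₜ[k] b * diagProj 𝒜 ℬ y)
        (by simp) (fun x z hx hz => by rw [mul_add, map_add, hx, hz, map_add, mul_add]) (fun i j c d hc hd => ?_) y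
      rw [Algebra.TensorProduct.tmul_mul_tmul, diagProj_tmul 𝒜 ℬ (SetLike.GradedMul.mul_mem ha hc)
        (SetLike.GradedMul.mul_mem hb hd), diagProj_tmul 𝒜 ℬ hc hd]
      by_cases h : i = j
      · rw [if_pos h, if_pos (by rw [h]), Algebra.TensorProduct.tmul_mul_tmul]
      · rw [if_neg h, if_neg (by omega), mul_zero]

theorem diagProj_self {w : R ⊗[k] S} (hw : w ∈ diag 𝒜 ℬ) : diagProj 𝒜 ℬ w = w := by
  have h1 : diagProj 𝒜 ℬ ((1 : R) ⊗ₜ[k] (1 : S)) = (1 : R) ⊗ₜ[k] (1 : S) := by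
    rw [diagProj_tmul 𝒜 ℬ SetLike.GradedOne.one_mem SetLike.GradedOne.one_mem, if_pos rfl]
  have := diagProj_mul 𝒜 ℬ hw 1
  rw [mul_one, Algebra.TensorProduct.one_def, h1, ← Algebra.TensorProduct.one_def, mul_one] at this
  exact this

variable [Algebra.FiniteType k R] [Algebra.FiniteType k S] {T : Type u} [CommRing T] [Algebra k T]

/-- The diagonal subalgebra of a Noetherian tensor product is Noetherian. -/
theorem isNoetherianRing_diag (ψ : T →ₐ[k] R ⊗[k] S) (hψ : Function.Injective ψ)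
    (hrange : LinearMap.range ψ.toLinearMap = diag 𝒜 ℬ) : IsNoetherianRing T := by
  haveI : IsNoetherianRing R := Algebra.FiniteType.isNoetherianRing k R
  haveI : IsNoetherianRing (R ⊗[k] S) := Algebra.FiniteType.isNoetherianRing R (R ⊗[k] S)
  have hmem : ∀ t, ψ t ∈ diag 𝒜 ℬ := fun t => hrange ▸ ⟨t, rfl⟩
  have key : ∀ I : Ideal T, (I.map ψ).comap ψ = I := by
    intro I
    refine le_antisymm (fun x hx => ?_) Ideal.le_comap_map
    have : ∀ w ∈ I.map ψ, ∀ y, ∃ i ∈ I, diagProj 𝒜 ℬ (y * w) = ψ i := by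
      intro w hw
      unfold Ideal.map at hw
      induction hw using Submodule.span_induction with
      | zero => exact fun y => ⟨0, I.zero_mem, by simp⟩
      | add u v _ _ hu hv =>
        intro y
        obtain ⟨i, hi, hi'⟩ := hu y
        obtain ⟨j, hj, hj'⟩ := hv y
        exact ⟨i + j, I.add_mem hi hj, by rw [mul_add, map_add, hi', hj', map_add]⟩
      | smul c u _ hu =>
        intro y
        obtain ⟨i, hi, hi'⟩ := hu (y * c)
        exact ⟨i, hi, by rw [smul_eq_mul, ← mul_assoc, hi']⟩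
      | mem w hw =>
        obtain ⟨i, hi, rfl⟩ := hw
        intro y
        have h1 : diagProj 𝒜 ℬ y ∈ LinearMap.range ψ.toLinearMap := hrange ▸ diagProj_mem 𝒜 ℬ y
        obtain ⟨z, hz⟩ := h1
        refine ⟨z * i, I.mul_mem_left z hi, ?_⟩
        rw [mul_comm, diagProj_mul 𝒜 ℬ (hmem i), map_mul, mul_comm]
        exact congrArg (· * ψ i) hz.symm
    obtain ⟨i, hi, hi'⟩ := this (ψ x) hx 1
    rw [one_mul, diagProj_self 𝒜 ℬ (hmem x)] at hi'
    exact hψ hi' ▸ hi
  rw [isNoetherianRing_iff, ← monotone_stabilizes_iff_noetherian]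
  intro f
  obtain ⟨n, hn⟩ := monotone_stabilizes_iff_noetherian.mpr
    (inferInstance : IsNoetherian (R ⊗[k] S) (R ⊗[k] S)) ⟨fun i => Ideal.map ψ (f i), fun _ _ h => Ideal.map_mono (f.monotone h)⟩
  refine ⟨n, fun m hm => ?_⟩
  rw [← key (f n), ← key (f m)]
  exact congrArg (Ideal.comap ψ) (hn m hm)

end Groth.Agent.H83.SegreNoeth
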