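import Mathlib.RingTheory.Nullstellensatz
import Mathlib.RingTheory.Ideal.KrullsHeightTheorem
import Mathlib.RingTheory.MvPolynomial.Homogeneous

/-!
# Common zeros of few polynomials

* `exists_common_zero`: fewer polynomials than variables, all vanishing at the origin, have another
  common zero.
-/

set_option autoImplicit false

universe u

open MvPolynomial

namespace Groth.Agent.H83.Elem

theorem exists_common_zero {k : Type u} [Field k] [IsAlgClosed k] {r : ℕ} {ι : Type*} [Fintype ι]
    (P : ι → MvPolynomial (Fin r) k) (hr : Fintype.card ι < r)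
    (hP : ∀ i, eval (0 : Fin r → k) (P i) = 0) : ∃ x, x ≠ 0 ∧ ∀ i, eval x (P i) = 0 := by
  classical
  by_contra hc
  push Not at hc
  set s : Finset (MvPolynomial (Fin r) k) := Finset.univ.image P
  set I : Ideal (MvPolynomial (Fin r) k) := Ideal.span (s : Set _)
  set M : Ideal (MvPolynomial (Fin r) k) := RingHom.ker (eval (0 : Fin r → k))
  have hM : M.IsPrime := RingHom.ker_isPrime _
  have hle : I ≤ M := by
    rw [Ideal.span_le]
    intro p hp
    obtain ⟨i, -, rfl⟩ := Finset.mem_image.1 (Finset.mem_coe.1 hp)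
    exact hP i
  have hrad : M ≤ I.radical := by
    intro g hg
    rw [← MvPolynomial.vanishingIdeal_zeroLocus_eq_radical (K := k) I,
      MvPolynomial.mem_vanishingIdeal_iff]
    intro x hx
    rw [MvPolynomial.mem_zeroLocus_iff] at hx
    by_cases hx0 : x = 0
    · rw [aeval_eq_eval, hx0]; exact hg
    · obtain ⟨i, hi⟩ := hc x hx0
      have := hx (P i) (Ideal.subset_span (Finset.mem_coe.2 (Finset.mem_image_of_mem P (Finset.mem_univ i))))
      rw [aeval_eq_eval] at this
      exact absurd this hi
  have hmin : M ∈ I.minimalPrimes :=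
    ⟨⟨hM, hle⟩, fun p hp _ => hrad.trans (hp.1.radical_le_iff.2 hp.2)⟩
  have h2 : M.height ≤ Fintype.card ι :=
    (Ideal.height_le_card_of_mem_minimalPrimes_span_finset hmin).trans
      (by exact_mod_cast Finset.card_image_le)
  let σ : ℕ → MvPolynomial (Fin r) k →ₐ[k] MvPolynomial (Fin r) k := fun n =>
    aeval fun i : Fin r => if (i : ℕ) < n then 0 else X i
  have hp : ∀ n, (RingHom.ker (σ n)).IsPrime := fun n => RingHom.ker_isPrime _
  have hσX : ∀ n (i : Fin r), σ n (X i) = if (i : ℕ) < n then 0 else X i := fun n i => aeval_X _ i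
  have hcomp : ∀ n, (σ (n + 1)).comp (σ n) = σ (n + 1) := by
    intro n
    refine MvPolynomial.algHom_ext fun i => ?_
    rw [AlgHom.comp_apply, hσX n i]
    split_ifs with h
    · rw [map_zero, hσX, if_pos (h.trans (Nat.lt_succ_self n))]
    · rfl
  have hlt : ∀ (n : ℕ) (hn : n < r), RingHom.ker (σ n) < RingHom.ker (σ (n + 1)) := by
    intro n hn
    refine SetLike.lt_iff_le_and_exists.2 ⟨fun g hg => ?_, X ⟨n, hn⟩, ?_, ?_⟩
    · rw [RingHom.mem_ker] at hg ⊢
      rw [← hcomp n, AlgHom.comp_apply, hg, map_zero]
    · rw [RingHom.mem_ker, hσX, if_pos (Nat.lt_succ_self n)]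
    · rw [RingHom.mem_ker, hσX, if_neg (lt_irrefl n)]
      exact X_ne_zero _
  have h3 : RingHom.ker (σ r) ≤ M := by
    intro g hg
    rw [RingHom.mem_ker] at hg ⊢
    have : ∀ g, (eval (0 : Fin r → k)) (σ r g) = eval 0 g := by
      intro g
      induction g using MvPolynomial.induction_on with
      | C a => simp [σ]
      | add p q hp hq => rw [map_add, map_add, map_add, hp, hq]
      | mul_X p i hp => simp [hp, hσX]
    rw [← this, hg, map_zero]
  have hfin : ∀ n, (RingHom.ker (σ n)).FiniteHeight := fun n => inferInstance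
  have hb : ∀ n, n ≤ r → (n : ℕ∞) ≤ (RingHom.ker (σ n)).height := by
    intro n
    induction n with
    | zero => intro _; simp
    | succ n ih =>
      intro hn
      have := Order.add_one_le_of_lt (lt_of_le_of_lt (ih (by omega))
        (Ideal.height_strict_mono_of_isPrime_of_isPrime (hlt n (by omega))))
      exact_mod_cast this
  have := ((hb r le_rfl).trans (Ideal.height_mono h3)).trans h2
  have : r ≤ Fintype.card ι := by exact_mod_cast this
  omega

/-- A form of positive degree vanishes at the origin. -/
theorem eval_zero_of_isHomogeneous {k : Type u} [CommRing k] {σ : Type*} {p : MvPolynomial σ k}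
    {d : ℕ} (hp : p.IsHomogeneous d) (hd : d ≠ 0) : eval (0 : σ → k) p = 0 := by
  rw [eval_zero, constantCoeff_eq]
  exact hp.coeff_eq_zero (by simpa using hd.symm)

end Groth.Agent.H83.Elem
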