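import Groth.Prelude.Def_W4c6intromoduliQuartic
import Mathlib.Tactic.LinearCombination
import Mathlib.Tactic.FieldSimp
import Mathlib.Tactic.Ring
import Mathlib.Algebra.BigOperators.Fin

/-!
# Split binary quartics

* `invI_eq`, `invJ_eq`: the invariants in terms of `A = d01 d23` and `C = d03 d12`;
* `exists_perm`: equal invariants up to scaling give equal cross-ratios after a permutation;
* `exists_subst`: equal cross-ratios give equivalent forms.
-/

set_option autoImplicit false

universe u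

namespace Groth.Agent.H83.BinaryQuartic

open W4c6intromoduli

variable {k : Type u} [Field k]

/-- The bracket of two root points. -/
def br (la mu : Fin 4 → k) (i j : Fin 4) : k := la i * mu j - la j * mu i

/-- The first product of brackets. -/
def pA (la mu : Fin 4 → k) : k := br la mu 0 1 * br la mu 2 3

/-- The second product of brackets. -/
def pC (la mu : Fin 4 → k) : k := br la mu 0 3 * br la mu 1 2

theorem coef_eq (la mu : Fin 4 → k) :
    coef la mu 0 = mu 0 * mu 1 * mu 2 * mu 3 ∧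
    coef la mu 1 = -(la 0 * mu 1 * mu 2 * mu 3 + mu 0 * la 1 * mu 2 * mu 3 +
      mu 0 * mu 1 * la 2 * mu 3 + mu 0 * mu 1 * mu 2 * la 3) ∧
    coef la mu 2 = la 0 * la 1 * mu 2 * mu 3 + la 0 * mu 1 * la 2 * mu 3 +
      la 0 * mu 1 * mu 2 * la 3 + mu 0 * la 1 * la 2 * mu 3 + mu 0 * la 1 * mu 2 * la 3 +
      mu 0 * mu 1 * la 2 * la 3 ∧
    coef la mu 3 = -(mu 0 * la 1 * la 2 * la 3 + la 0 * mu 1 * la 2 * la 3 +
      la 0 * la 1 * mu 2 * la 3 + la 0 * la 1 * la 2 * mu 3) ∧
    coef la mu 4 = la 0 * la 1 * la 2 * la 3 := by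
  have h : rootPoly la mu = Polynomial.C (mu 0 * mu 1 * mu 2 * mu 3) +
      Polynomial.C (-(la 0 * mu 1 * mu 2 * mu 3 + mu 0 * la 1 * mu 2 * mu 3 +
        mu 0 * mu 1 * la 2 * mu 3 + mu 0 * mu 1 * mu 2 * la 3)) * Polynomial.X +
      Polynomial.C (la 0 * la 1 * mu 2 * mu 3 + la 0 * mu 1 * la 2 * mu 3 +
        la 0 * mu 1 * mu 2 * la 3 + mu 0 * la 1 * la 2 * mu 3 + mu 0 * la 1 * mu 2 * la 3 +
        mu 0 * mu 1 * la 2 * la 3) * Polynomial.X ^ 2 +
      Polynomial.C (-(mu 0 * la 1 * la 2 * la 3 + la 0 * mu 1 * la 2 * la 3 +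
        la 0 * la 1 * mu 2 * la 3 + la 0 * la 1 * la 2 * mu 3)) * Polynomial.X ^ 3 +
      Polynomial.C (la 0 * la 1 * la 2 * la 3) * Polynomial.X ^ 4 := by
    simp only [rootPoly, Fin.prod_univ_four, map_add, map_mul, map_neg]
    ring
  refine ⟨?_, ?_, ?_, ?_, ?_⟩ <;>
    simp [coef, h, Polynomial.coeff_X, -map_add, -map_mul, -map_neg]

theorem invI_eq (la mu : Fin 4 → k) :
    invI (coef la mu) = pA la mu ^ 2 + pA la mu * pC la mu + pC la mu ^ 2 := by
  obtain ⟨h0, h1, h2, h3, h4⟩ := coef_eq la mu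
  simp only [invI, h0, h1, h2, h3, h4, pA, pC, br]
  ring

theorem invJ_eq (la mu : Fin 4 → k) :
    invJ (coef la mu) =
      -((pC la mu - pA la mu) * (2 * pA la mu + pC la mu) * (pA la mu + 2 * pC la mu)) := by
  obtain ⟨h0, h1, h2, h3, h4⟩ := coef_eq la mu
  simp only [invJ, h0, h1, h2, h3, h4, pA, pC, br]
  ring

theorem br_symm_zero {la mu : Fin 4 → k} {i j : Fin 4} (h : br la mu i j = 0) : br la mu j i = 0 := by
  simp only [br] at h ⊢; linear_combination -h

theorem br_trans {la mu : Fin 4 → k} (hne : ∀ i, la i ≠ 0 ∨ mu i ≠ 0) {i j l : Fin 4}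
    (h1 : br la mu i j = 0) (h2 : br la mu j l = 0) : br la mu i l = 0 := by
  simp only [br] at h1 h2 ⊢
  rcases hne j with h | h
  · exact (mul_eq_zero.1 (show la j * (la i * mu l - la l * mu i) = 0 by
      linear_combination la i * h2 + la l * h1)).resolve_left h
  · exact (mul_eq_zero.1 (show mu j * (la i * mu l - la l * mu i) = 0 by
      linear_combination mu l * h1 + mu i * h2)).resolve_left h

theorem triple_iff {la mu : Fin 4 → k} (h3 : (3 : k) ≠ 0) (hne : ∀ i, la i ≠ 0 ∨ mu i ≠ 0) :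
    (invI (coef la mu) = 0 ∧ invJ (coef la mu) = 0) ↔
      ∃ i j l : Fin 4, i ≠ j ∧ j ≠ l ∧ i ≠ l ∧
        la i * mu j = la j * mu i ∧ la j * mu l = la l * mu j := by
  rw [invI_eq, invJ_eq]
  set A := pA la mu with hA
  set C := pC la mu with hC
  have key : (A ^ 2 + A * C + C ^ 2 = 0 ∧ -((C - A) * (2 * A + C) * (A + 2 * C)) = 0) ↔
      A = 0 ∧ C = 0 := by
    constructor
    · rintro ⟨hI, hJ⟩
      rw [neg_eq_zero, mul_eq_zero, mul_eq_zero] at hJ
      rcases hJ with (h | h) | h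
      · have : A * A = 0 := (mul_eq_zero.1 (show (3 : k) * (A * A) = 0 by
          linear_combination hI - (C + 2 * A) * h)).resolve_left h3
        have hA0 := mul_self_eq_zero.1 this
        exact ⟨hA0, by linear_combination h + hA0⟩
      · have : A * A = 0 := (mul_eq_zero.1 (show (3 : k) * (A * A) = 0 by
          linear_combination hI - (C - A) * h)).resolve_left h3
        have hA0 := mul_self_eq_zero.1 this
        exact ⟨hA0, by linear_combination h - 2 * hA0⟩
      · have : C * C = 0 := (mul_eq_zero.1 (show (3 : k) * (C * C) = 0 by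
          linear_combination hI - (A - C) * h)).resolve_left h3
        have hC0 := mul_self_eq_zero.1 this
        exact ⟨by linear_combination h - 2 * hC0, hC0⟩
    · rintro ⟨h, h'⟩; simp [h, h']
  rw [key]
  constructor
  · rintro ⟨h1, h2⟩
    have h4 : br la mu 0 2 * br la mu 1 3 = 0 := by
      simp only [hA, hC, pA, pC, br] at h1 h2 ⊢
      linear_combination h1 + h2
    have mk : ∀ i j l : Fin 4, i ≠ j → j ≠ l → i ≠ l → br la mu i j = 0 → br la mu j l = 0 →
        ∃ i j l : Fin 4, i ≠ j ∧ j ≠ l ∧ i ≠ l ∧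
        la i * mu j = la j * mu i ∧ la j * mu l = la l * mu j :=
      fun i j l a b c d e => ⟨i, j, l, a, b, c, sub_eq_zero.1 d, sub_eq_zero.1 e⟩
    simp only [hA, hC, pA, pC, mul_eq_zero] at h1 h2
    rcases h1 with a | a <;> rcases mul_eq_zero.1 h4 with b | b <;> rcases h2 with c | c
    · exact mk 1 0 2 (by decide) (by decide) (by decide) (br_symm_zero a) b
    · exact mk 1 0 2 (by decide) (by decide) (by decide) (br_symm_zero a) b
    · exact mk 1 0 3 (by decide) (by decide) (by decide) (br_symm_zero a) c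
    · exact mk 0 1 2 (by decide) (by decide) (by decide) a c
    · exact mk 2 0 3 (by decide) (by decide) (by decide) (br_symm_zero b) c
    · exact mk 0 2 3 (by decide) (by decide) (by decide) b a
    · exact mk 0 3 2 (by decide) (by decide) (by decide) c (br_symm_zero a)
    · exact mk 1 3 2 (by decide) (by decide) (by decide) b (br_symm_zero a)
  · rintro ⟨i, j, l, hij, hjl, hil, h1, h2⟩
    have d1 : br la mu i j = 0 := sub_eq_zero.2 h1
    have d2 : br la mu j l = 0 := sub_eq_zero.2 h2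
    have d3 : br la mu i l = 0 := br_trans hne d1 d2
    have hall : ∀ a b : Fin 4, (a = i ∨ a = j ∨ a = l) → (b = i ∨ b = j ∨ b = l) →
        br la mu a b = 0 := by
      rintro a b (rfl | rfl | rfl) (rfl | rfl | rfl)
      all_goals first
        | (unfold br; ring1)
        | exact d1 | exact d2 | exact d3
        | exact br_symm_zero d1 | exact br_symm_zero d2 | exact br_symm_zero d3
    have hcov : ∀ i j l : Fin 4, i ≠ j → j ≠ l → i ≠ l →
        (((0 = i ∨ 0 = j ∨ 0 = l) ∧ (1 = i ∨ 1 = j ∨ 1 = l)) ∨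
          ((2 = i ∨ 2 = j ∨ 2 = l) ∧ (3 = i ∨ 3 = j ∨ 3 = l))) ∧
        (((0 = i ∨ 0 = j ∨ 0 = l) ∧ (3 = i ∨ 3 = j ∨ 3 = l)) ∨
          ((1 = i ∨ 1 = j ∨ 1 = l) ∧ (2 = i ∨ 2 = j ∨ 2 = l))) := by decide
    obtain ⟨hA', hC'⟩ := hcov i j l hij hjl hil
    refine ⟨?_, ?_⟩
    · rw [hA, pA, mul_eq_zero]
      exact hA'.imp (fun h => hall _ _ h.1 h.2) (fun h => hall _ _ h.1 h.2)
    · rw [hC, pC, mul_eq_zero]
      exact hC'.imp (fun h => hall _ _ h.1 h.2) (fun h => hall _ _ h.1 h.2)

theorem binForm_perm (la mu : Fin 4 → k) (σ : Equiv.Perm (Fin 4)) :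
    binForm (la ∘ σ) (mu ∘ σ) = binForm la mu :=
  Equiv.prod_comp σ fun i =>
    MvPolynomial.C (mu i) * MvPolynomial.X 0 - MvPolynomial.C (la i) * MvPolynomial.X 1

theorem br_ne_zero_of_disc {la mu : Fin 4 → k} (hd : disc la mu ≠ 0) {i j : Fin 4} (hij : i ≠ j) :
    br la mu i j ≠ 0 := by
  intro h
  apply hd
  rw [disc, Finset.prod_eq_zero_iff]
  rcases lt_or_gt_of_ne hij with hlt | hgt
  · refine ⟨(i, j), Finset.mem_filter.2 ⟨Finset.mem_univ _, hlt⟩, ?_⟩
    simp only [br] at h
    rw [sq_eq_zero_iff]; linear_combination -h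
  · refine ⟨(j, i), Finset.mem_filter.2 ⟨Finset.mem_univ _, hgt⟩, ?_⟩
    simp only [br] at h
    rw [sq_eq_zero_iff]; exact h

/-- Proportional invariants give the same cross-ratio after a permutation. -/
theorem exists_perm (h3 : (3 : k) ≠ 0) (la mu la' mu' : Fin 4 → k)
    (h : invI (coef la mu) ^ 3 * invJ (coef la' mu') ^ 2 =
        invI (coef la' mu') ^ 3 * invJ (coef la mu) ^ 2) :
    ∃ σ : Equiv.Perm (Fin 4), pA (la ∘ σ) (mu ∘ σ) * pC la' mu' = pC (la ∘ σ) (mu ∘ σ) * pA la' mu' := by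
  simp only [invI_eq, invJ_eq] at h
  set A := pA la mu
  set C := pC la mu
  set A' := pA la' mu'
  set C' := pC la' mu'
  have hp : (A' * C - C' * A) * (A' * A - C' * C) * (A' * C - C' * (-A - C)) *
      (A' * (-A - C) - C' * C) * (A' * (-A - C) - C' * A) * (A' * A - C' * (-A - C)) = 0 := by
    refine (mul_eq_zero.1 (show (27 : k) * _ = 0 from ?_)).resolve_left
      (by rw [show (27 : k) = 3 ^ 3 by norm_num]; exact pow_ne_zero 3 h3)
    linear_combination h
  have use' : ∀ σ : Equiv.Perm (Fin 4), pA (la ∘ σ) (mu ∘ σ) * C' - pC (la ∘ σ) (mu ∘ σ) * A' = 0 →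
      ∃ σ : Equiv.Perm (Fin 4), pA (la ∘ σ) (mu ∘ σ) * C' = pC (la ∘ σ) (mu ∘ σ) * A' :=
    fun σ hh => ⟨σ, sub_eq_zero.1 hh⟩
  simp only [mul_eq_zero] at hp
  rcases hp with ((((h1 | h1) | h1) | h1) | h1) | h1
  · refine use' 1 ?_
    show A * C' - C * A' = 0
    linear_combination -h1
  · refine use' (Equiv.swap 1 3) ?_
    simp only [A, C, pA, pC, br] at h1
    simp [pA, pC, br, Equiv.swap_apply_def]
    linear_combination h1
  · refine use' (Equiv.swap 1 2) ?_
    simp only [A, C, pA, pC, br] at h1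
    simp [pA, pC, br, Equiv.swap_apply_def]
    linear_combination h1
  · refine use' (Equiv.swap 1 3 * Equiv.swap 2 3) ?_
    simp only [A, C, pA, pC, br] at h1
    simp [pA, pC, br, Equiv.swap_apply_def]
    linear_combination -h1
  · refine use' (Equiv.swap 2 3) ?_
    simp only [A, C, pA, pC, br] at h1
    simp [pA, pC, br, Equiv.swap_apply_def]
    linear_combination h1
  · refine use' (Equiv.swap 2 3 * Equiv.swap 1 3) ?_
    simp only [A, C, pA, pC, br] at h1
    simp [pA, pC, br, Equiv.swap_apply_def]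
    linear_combination -h1

/-- Equal cross-ratios give equivalent forms. -/
theorem exists_subst (la mu la' mu' : Fin 4 → k) (hne' : ∀ i, la' i ≠ 0 ∨ mu' i ≠ 0)
    (hne : ∀ i, la i ≠ 0 ∨ mu i ≠ 0)
    (hd : ∀ i j, i ≠ j → br la mu i j ≠ 0) (hd' : ∀ i j, i ≠ j → br la' mu' i j ≠ 0)
    (h : pA la mu * pC la' mu' = pC la mu * pA la' mu') :
    ∃ (M : Matrix (Fin 2) (Fin 2) k) (c : k), IsUnit M.det ∧ c ≠ 0 ∧
      binForm la' mu' = MvPolynomial.C c * subst M (binForm la mu) := by
  set a := br la mu 2 1 * br la' mu' 0 2 with ha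
  set b := br la mu 0 2 * br la' mu' 2 1 with hb
  let M : Matrix (Fin 2) (Fin 2) k :=
    !![a * la 0 * mu' 1 - b * la 1 * mu' 0, b * la 1 * la' 0 - a * la 0 * la' 1;
      a * mu 0 * mu' 1 - b * mu 1 * mu' 0, b * mu 1 * la' 0 - a * mu 0 * la' 1]
  have hdet : M.det ≠ 0 := by
    have e : M.det = a * b * br la mu 0 1 * br la' mu' 0 1 := by
      simp only [M, Matrix.det_fin_two, Matrix.of_apply, Matrix.cons_val', Matrix.cons_val_zero,
        Matrix.cons_val_one, Matrix.empty_val', Matrix.cons_val_fin_one, br]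
      ring
    rw [e]
    exact mul_ne_zero (mul_ne_zero (mul_ne_zero
      (mul_ne_zero (hd _ _ (by decide)) (hd' _ _ (by decide)))
      (mul_ne_zero (hd _ _ (by decide)) (hd' _ _ (by decide)))) (hd _ _ (by decide)))
      (hd' _ _ (by decide))
  have hzero : ∀ i, (mu i * M 0 0 - la i * M 1 0) * la' i + (mu i * M 0 1 - la i * M 1 1) * mu' i = 0 := by
    intro i
    simp only [pA, pC, br] at h
    fin_cases i
    all_goals simp only [M, Matrix.of_apply, Matrix.cons_val', Matrix.cons_val_zero, Fin.zero_eta,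
      Matrix.cons_val_one, Matrix.empty_val', Matrix.cons_val_fin_one, ha, hb, br, Fin.mk_one,
      Fin.reduceFinMk]
    · ring
    · ring
    · ring
    · linear_combination -h
  have hprop : ∀ i, ∃ e : k, e ≠ 0 ∧
      mu i * M 0 0 - la i * M 1 0 = e * mu' i ∧ mu i * M 0 1 - la i * M 1 1 = -(e * la' i) := by
    intro i
    obtain ⟨e, h1, h2⟩ : ∃ e : k,
        mu i * M 0 0 - la i * M 1 0 = e * mu' i ∧ mu i * M 0 1 - la i * M 1 1 = -(e * la' i) := by
      by_cases hl : la' i = 0
      · have hm : mu' i ≠ 0 := (hne' i).resolve_left (not_not.2 hl)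
        refine ⟨(mu i * M 0 0 - la i * M 1 0) / mu' i, by field_simp, ?_⟩
        have h0 := hzero i
        rw [hl, mul_zero, zero_add, mul_eq_zero, or_iff_left hm] at h0
        rw [h0, hl, mul_zero, neg_zero]
      · refine ⟨-(mu i * M 0 1 - la i * M 1 1) / la' i, ?_, by field_simp⟩
        field_simp
        linear_combination hzero i
    refine ⟨e, fun he => ?_, h1, h2⟩
    rw [he, zero_mul] at h1 h2
    rw [neg_zero] at h2
    rw [Matrix.det_fin_two] at hdet
    rcases hne i with hl | hm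
    · exact hdet ((mul_eq_zero.1 (show la i * (M 0 0 * M 1 1 - M 0 1 * M 1 0) = 0 by
        linear_combination -M 0 0 * h2 + M 0 1 * h1)).resolve_left hl)
    · exact hdet ((mul_eq_zero.1 (show mu i * (M 0 0 * M 1 1 - M 0 1 * M 1 0) = 0 by
        linear_combination M 1 1 * h1 - M 1 0 * h2)).resolve_left hm)
  choose e he hx hy using hprop
  have hsub : subst M (binForm la mu) = MvPolynomial.C (∏ i, e i) * binForm la' mu' := by
    rw [binForm, binForm, map_prod, map_prod, ← Finset.prod_mul_distrib]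
    refine Finset.prod_congr rfl fun i _ => ?_
    have hxc := congrArg (MvPolynomial.C (σ := Fin 2)) (hx i)
    have hyc := congrArg (MvPolynomial.C (σ := Fin 2)) (hy i)
    simp only [map_sub, map_mul, map_neg] at hxc hyc
    simp only [subst, map_sub, map_mul, MvPolynomial.aeval_C, MvPolynomial.aeval_X,
      MvPolynomial.algebraMap_eq, Fin.sum_univ_two]
    linear_combination MvPolynomial.X 0 * hxc + MvPolynomial.X 1 * hyc
  refine ⟨M, (∏ i, e i)⁻¹, isUnit_iff_ne_zero.2 hdet,
    inv_ne_zero (Finset.prod_ne_zero_iff.2 fun i _ => he i), ?_⟩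
  rw [hsub, ← mul_assoc, ← map_mul, inv_mul_cancel₀ (Finset.prod_ne_zero_iff.2 fun i _ => he i),
    map_one, one_mul]

end Groth.Agent.H83.BinaryQuartic
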