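import Groth.Agent.H83.Elem.ConjPairRing
import Mathlib.FieldTheory.Minpoly.Field
import Mathlib.SetTheory.Cardinal.Finite
import Mathlib.GroupTheory.OrderOfElement

/-!
# Automorphisms of the complement of a conjugate pair of points

* `finite_bound`: a finite group of automorphisms over a field with all roots of unity has exponent
  two and at most four elements.
-/

set_option autoImplicit false
set_option linter.unusedSectionVars false

universe u

open MvPolynomial
open scoped LaurentPolynomial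
open LaurentPolynomial (T T_add T_zero T_pow isUnit_T)

attribute [local instance] MvPolynomial.gradedAlgebra

namespace Groth.Agent.H83.ConjPair

variable {K : Type u} [Field K] {q : MvPolynomial (Fin 2) K}

theorem exists_C_mul_T {L : Type u} [Field L] {f : L[T;T⁻¹]} (hf : IsUnit f) :
    ∃ c : L, c ≠ 0 ∧ ∃ n : ℤ, f = LaurentPolynomial.C c * T n := by
  obtain ⟨g, hfg⟩ := hf.exists_right_inv
  obtain ⟨m, p, hp⟩ := f.exists_T_pow
  obtain ⟨l, r, hr⟩ := g.exists_T_pow
  have hpr : p * r = Polynomial.X ^ (m + l) := by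
    refine Polynomial.toLaurent_injective ?_
    rw [map_mul, hp, hr, Polynomial.toLaurent_X_pow, Nat.cast_add, T_add]
    linear_combination (T (m : ℤ) * T (l : ℤ)) * hfg
  obtain ⟨i, -, hi⟩ := (dvd_prime_pow Polynomial.prime_X (m + l)).1 ⟨r, hpr.symm⟩
  obtain ⟨u, hu⟩ := hi.symm
  obtain ⟨c, hc, hcu⟩ := Polynomial.isUnit_iff.1 u.isUnit
  refine ⟨c, hc.ne_zero, (i : ℤ) - m, ?_⟩
  refine (isUnit_T (R := L) (m : ℤ)).mul_left_injective ?_
  simp only
  rw [← hp, ← hu, ← hcu, map_mul, Polynomial.toLaurent_X_pow, Polynomial.toLaurent_C, mul_assoc,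
    ← T_add, sub_add_cancel, mul_comm]

theorem C_mul_T_inj {L : Type u} [Field L] {c d : L} {m n : ℤ} (hc : c ≠ 0)
    (h : (LaurentPolynomial.C c * T m : L[T;T⁻¹]) = LaurentPolynomial.C d * T n) :
    m = n ∧ c = d := by
  rw [← LaurentPolynomial.single_eq_C_mul_T, ← LaurentPolynomial.single_eq_C_mul_T] at h
  have h' := congrArg (fun f : L[T;T⁻¹] => f.coeff m) h
  classical
  simp [Finsupp.single_apply, -LaurentPolynomial.single_eq_C_mul_T] at h'
  split_ifs at h' with hnm
  · exact ⟨hnm.symm, h'⟩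
  · exact absurd h' hc

section

variable {L : Type u} [Field L] [Algebra K L] (D : Data q L)

theorem eq_of_AB (hq : q.IsHomogeneous 2) {h₁ h₂ : CR q →+* L[T;T⁻¹]}
    (hc : ∀ c : K, h₁ (c • 1) = scal c ∧ h₂ (c • 1) = scal c)
    (hA : h₁ (elA D) = h₂ (elA D)) (hB : h₁ (elB D) = h₂ (elB D)) : h₁ = h₂ := by
  set u := uE D.isHomogeneous
  set v := vE D.isHomogeneous
  set w := wE D.isHomogeneous
  have hs : ∀ (h : CR q →+* L[T;T⁻¹]), (∀ c : K, h (c • 1) = scal c) → ∀ (c : K) z,
      h (c • z) = scal c * h z := fun h hh c z => by rw [smul_eq_mul_one, map_mul, hh]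
  have hone : D.a • (u + (-D.s) • v + D.p • w) = 1 := by
    have e1 : D.a • (u + (-D.s) • v + D.p • w) = frac D.isHomogeneous 1 q
        D.isHomogeneous := by
      apply HomogeneousLocalization.val_injective
      simp only [HomogeneousLocalization.val_smul, HomogeneousLocalization.val_add, u, v, w, uE,
        vE, wE, val_frac, Localization.smul_mk, Localization.add_mk_self]
      congr 1
      conv_rhs => rw [D.q_eq]
      simp only [MvPolynomial.smul_eq_C_mul, map_neg]
      ring
    rw [e1]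
    apply HomogeneousLocalization.val_injective
    rw [HomogeneousLocalization.val_one, val_frac, ← Localization.mk_one]
    refine Localization.mk_eq_mk_iff.2 (Localization.r_of_eq ?_)
    simp [pow_one]
  have key : ∀ h : CR q →+* L[T;T⁻¹], (∀ c : K, h (c • 1) = scal c) →
      scal D.a * (h u - scal D.p * h w) = h (elA D) ∧
      scal D.a * (-(scal (2 : K) * h v) + scal D.s * h w) = h (elB D) ∧
      scal D.a * (h u - scal D.s * h v + scal D.p * h w) = 1 := by
    intro h hh
    refine ⟨?_, ?_, ?_⟩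
    · simp only [elA, hs h hh, map_add, map_neg]; ring
    · simp only [elB, hs h hh, map_add, map_neg, map_ofNat]; ring
    · have e := congrArg h hone
      simp only [hs h hh, map_add, map_neg, map_one] at e
      linear_combination e
  obtain ⟨a1, b1, c1⟩ := key h₁ fun c => (hc c).1
  obtain ⟨a2, b2, c2⟩ := key h₂ fun c => (hc c).2
  have hdisc : IsUnit (scal D.a * scal (D.s ^ 2 - 4 * D.p) : L[T;T⁻¹]) :=
    ((isUnit_iff_ne_zero.2 D.a_ne).map scal).mul ((isUnit_iff_ne_zero.2 D.disc).map scal)
  simp only [map_sub, map_pow, map_mul, map_ofNat] at hdisc b1 b2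
  have hw' : h₁ w = h₂ w := by
    refine hdisc.mul_right_injective ?_
    simp only
    linear_combination (scal D.s : L[T;T⁻¹]) * (b1 - b2 - hB.symm * 0) +
      (scal D.s) * hB - 2 * (c1 - c2) + 2 * (a1 - a2 + hA)
  have hv' : h₁ v = h₂ v := by
    refine hdisc.mul_right_injective ?_
    simp only
    linear_combination 2 * (scal D.p : L[T;T⁻¹]) * (b1 - b2 + hB) -
      (scal D.s) * (c1 - c2) + (scal D.s) * (a1 - a2 + hA)
  have ha : IsUnit (scal D.a : L[T;T⁻¹]) := (isUnit_iff_ne_zero.2 D.a_ne).map scal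
  have hu' : h₁ u = h₂ u := by
    refine ha.mul_right_injective ?_
    simp only
    linear_combination a1 - a2 + hA + scal D.a * scal D.p * hw'
  exact hom_ext hq (fun c => by rw [(hc c).1, (hc c).2]) hu' hv' hw'

/-- The value at `T`. -/
noncomputable def tau (g : CR q ≃+* CR q) : L[T;T⁻¹] :=
  phi D (g (elA D)) + LaurentPolynomial.C D.α * phi D (g (elB D))

/-- The value at `T⁻¹`. -/
noncomputable def tau' (g : CR q ≃+* CR q) : L[T;T⁻¹] :=
  phi D (g (elA D)) + LaurentPolynomial.C D.β * phi D (g (elB D))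

/-- `g` is linear over the base field. -/
def IsLin (g : CR q ≃+* CR q) : Prop := ∀ (k : K) z, g (k • z) = k • g z

/-- The conjugation of Laurent polynomials. -/
noncomputable def conj : L[T;T⁻¹] →+* L[T;T⁻¹] :=
  LaurentPolynomial.eval₂ ((LaurentPolynomial.C).comp D.σ.toRingHom)
    ((isUnit_T (R := L) (-1)).unit)

theorem conj_C (c : L) : conj D (LaurentPolynomial.C c) = LaurentPolynomial.C (D.σ c) := by
  simp [conj, LaurentPolynomial.eval₂_C]

theorem conj_scal (c : K) : conj D (scal c) = scal c := by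
  rw [scal, RingHom.comp_apply, conj_C, D.σ.commutes]

theorem unit_T_zpow (n : ℤ) (m : ℤ) :
    (((isUnit_T (R := L) n).unit ^ m : (L[T;T⁻¹])ˣ) : L[T;T⁻¹]) = T (n * m) := by
  have hn : ∀ j : ℕ, (((isUnit_T (R := L) n).unit ^ j : (L[T;T⁻¹])ˣ) : L[T;T⁻¹]) = T (n * j) := by
    intro j
    rw [Units.val_pow_eq_pow_val, IsUnit.unit_spec, T_pow, mul_comm]
  cases m with
  | ofNat j => rw [Int.ofNat_eq_natCast, zpow_natCast]; exact hn j
  | negSucc j =>
    rw [zpow_negSucc]
    refine Units.inv_eq_of_mul_eq_one_right ?_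
    rw [hn, ← T_add, show n * ((j + 1 : ℕ) : ℤ) + n * Int.negSucc j = 0 by
      rw [Int.negSucc_eq]; push_cast; ring, T_zero]

theorem conj_T (n : ℤ) : conj D (T n) = T (-n) := by
  rw [conj, LaurentPolynomial.eval₂_T, unit_T_zpow, neg_one_mul]

theorem conj_theta (f : MvPolynomial (Fin 2) K) (d : ℕ) (hf : f.IsHomogeneous d) :
    conj D (theta D f) * T (d : ℤ) = theta D f := by
  classical
  have hι : (LaurentPolynomial.C (D.β - D.α)⁻¹ : L[T;T⁻¹]) = -LaurentPolynomial.C (D.α - D.β)⁻¹ := by
    rw [← map_neg, neg_inv, neg_sub]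
  have hT : (T (-1) : L[T;T⁻¹]) * T 1 = 1 := by rw [← T_add, neg_add_cancel, T_zero]
  have hX : ∀ i : Fin 2, conj D (theta D (X i)) * T 1 = theta D (X i) := by
    intro i
    fin_cases i
    · simp only [theta, eval₂Hom_X', Fin.zero_eta, Matrix.cons_val_zero, map_mul, map_sub, conj_C,
        conj_T, map_inv₀, D.σα, D.σβ, hι]
      linear_combination (-(LaurentPolynomial.C (D.α - D.β)⁻¹ : L[T;T⁻¹])) *
        (-LaurentPolynomial.C D.α) * hT
    · simp only [theta, eval₂Hom_X', Fin.mk_one, Matrix.cons_val_one, Matrix.cons_val_zero, map_mul, map_sub, conj_C,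
        conj_T, map_inv₀, D.σα, D.σβ, map_one, hι]
      linear_combination (LaurentPolynomial.C (D.α - D.β)⁻¹ : L[T;T⁻¹]) * hT
  conv_rhs => rw [f.as_sum]
  conv_lhs => rw [f.as_sum]
  simp only [map_sum, Finset.sum_mul]
  refine Finset.sum_congr rfl fun e he => ?_
  have hd : e 0 + e 1 = d := by
    have := hf (mem_support_iff.1 he)
    rw [← this, Finsupp.weight_apply, Finsupp.sum_fintype _ _ (fun _ => by simp), Fin.sum_univ_two]
    simp
  rw [monomial_eq, Finsupp.prod_fintype _ _ (fun _ => pow_zero _), Fin.prod_univ_two, map_mul,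
    map_mul, map_mul, map_mul, map_pow, map_pow, map_pow, map_pow,
    show theta D (MvPolynomial.C (coeff e f)) = scal (coeff e f) from eval₂Hom_C _ _ _, conj_scal,
    ← hd, Nat.cast_add, T_add, show (T (e 0 : ℤ) : L[T;T⁻¹]) = T 1 ^ e 0 by rw [T_pow, mul_one],
    show (T (e 1 : ℤ) : L[T;T⁻¹]) = T 1 ^ e 1 by rw [T_pow, mul_one]]
  conv_rhs => rw [← hX 0, ← hX 1, mul_pow, mul_pow]
  ring

theorem conj_phi (z : CR q) : conj D (phi D z) = phi D z := by
  obtain ⟨k, f, hf, rfl⟩ := frac_surjective D.isHomogeneous z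
  have h := phi_frac D k f hf
  have h' := congrArg (conj D) h
  rw [map_mul, map_pow] at h'
  have e1 := conj_theta D f (k * 2) hf
  have e2 := conj_theta D q 2 D.isHomogeneous
  refine ((isUnit_theta_q D).pow k).mul_left_injective ?_
  simp only
  rw [h]
  conv_rhs => rw [← e1, ← h']
  conv_lhs => rw [← e2]
  rw [mul_pow, T_pow, mul_assoc, Nat.cast_mul]

variable {g h : CR q ≃+* CR q}

theorem phi_g_smul_one (hg : IsLin g) (c : K) : phi D (g (c • 1)) = scal c := by
  rw [hg, map_one, phi_smul_one]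

theorem tau_mul_tau' (hg : IsLin g) : tau D g * tau' D g = 1 := by
  have := congrArg (fun z => phi D (g z)) (elA_elB_norm D)
  simp only [map_add, map_mul, map_one, show ∀ c : K, phi D (g (scalR c)) = scal c from
    phi_g_smul_one D hg] at this
  simp only [scal, RingHom.comp_apply, ← D.hs, ← D.hp, map_add, map_mul] at this
  simp only [tau, tau']
  linear_combination this

theorem exists_tau (hg : IsLin g) : ∃ c : L, c ≠ 0 ∧ ∃ n : ℤ,
    tau D g = LaurentPolynomial.C c * T n ∧ tau' D g = LaurentPolynomial.C c⁻¹ * T (-n) ∧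
    D.σ c = c⁻¹ := by
  obtain ⟨c, hc, n, hn⟩ := exists_C_mul_T (IsUnit.of_mul_eq_one _ (tau_mul_tau' D hg))
  have hone : LaurentPolynomial.C c * T n * (LaurentPolynomial.C c⁻¹ * T (-n)) = (1 : L[T;T⁻¹]) := by
    rw [mul_mul_mul_comm, ← map_mul, mul_inv_cancel₀ hc, map_one, ← T_add, add_neg_cancel, T_zero,
      mul_one]
  have hn' : tau' D g = LaurentPolynomial.C c⁻¹ * T (-n) := by
    have h1 := tau_mul_tau' D hg
    rw [hn] at h1
    calc tau' D g = tau' D g * (LaurentPolynomial.C c * T n *
          (LaurentPolynomial.C c⁻¹ * T (-n))) := by rw [hone, mul_one]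
      _ = (LaurentPolynomial.C c * T n * tau' D g) * (LaurentPolynomial.C c⁻¹ * T (-n)) := by ring
      _ = _ := by rw [h1, one_mul]
  refine ⟨c, hc, n, hn, hn', ?_⟩
  have := congrArg (conj D) hn
  rw [tau, map_add, map_mul, conj_phi, conj_phi, conj_C, D.σα, map_mul, conj_C, conj_T] at this
  rw [tau', this] at hn'
  exact (C_mul_T_inj (fun h0 => hc (D.σ.injective (h0.trans (map_zero D.σ).symm))) hn').2

/-- The coefficient of an automorphism. -/
noncomputable def cc (hg : IsLin g) : L := (exists_tau D hg).choose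

/-- The degree of an automorphism. -/
noncomputable def nn (hg : IsLin g) : ℤ := (exists_tau D hg).choose_spec.2.choose

theorem cc_nn_spec (hg : IsLin g) : cc D hg ≠ 0 ∧
    tau D g = LaurentPolynomial.C (cc D hg) * T (nn D hg) ∧
    tau' D g = LaurentPolynomial.C (cc D hg)⁻¹ * T (-nn D hg) ∧ D.σ (cc D hg) = (cc D hg)⁻¹ :=
  ⟨(exists_tau D hg).choose_spec.1, (exists_tau D hg).choose_spec.2.choose_spec⟩

theorem phi_elB_eq : LaurentPolynomial.C (D.α - D.β) * phi D (g (elB D)) = tau D g - tau' D g := by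
  rw [tau, tau', map_sub]; ring

theorem ext_of_tau (hg : IsLin g) (hh : IsLin h) (hc : cc D hg = cc D hh) (hn : nn D hg = nn D hh)
    (hinj : Function.Injective (phi D)) : g = h := by
  obtain ⟨-, t1, t1', -⟩ := cc_nn_spec D hg
  obtain ⟨-, t2, t2', -⟩ := cc_nn_spec D hh
  have e : tau D g = tau D h := by rw [t1, t2, hc, hn]
  have e' : tau' D g = tau' D h := by rw [t1', t2', hc, hn]
  have hB : phi D (g (elB D)) = phi D (h (elB D)) := by
    refine ((isUnit_iff_ne_zero.2 D.sub_ne_zero).map
      (LaurentPolynomial.C : L →+* L[T;T⁻¹])).mul_right_injective ?_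
    simp only
    rw [phi_elB_eq, phi_elB_eq, e, e']
  have hA : phi D (g (elA D)) = phi D (h (elA D)) := by
    have := e
    rw [tau, tau, hB] at this
    exact add_right_cancel this
  have := eq_of_AB D D.isHomogeneous (h₁ := (phi D).comp g.toRingHom) (h₂ := (phi D).comp h.toRingHom)
    (fun c => ⟨phi_g_smul_one D hg c, phi_g_smul_one D hh c⟩) hA hB
  exact RingEquiv.ext fun z => hinj (DFunLike.congr_fun this z)

/-- The substitution `T ↦ c T ^ n`. -/
noncomputable def ev (c : Lˣ) (n : ℤ) : L[T;T⁻¹] →+* L[T;T⁻¹] :=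
  LaurentPolynomial.eval₂ LaurentPolynomial.C
    ((Units.map (LaurentPolynomial.C : L →+* L[T;T⁻¹]).toMonoidHom c) * (isUnit_T (R := L) n).unit)

theorem ev_C (c : Lˣ) (n : ℤ) (x : L) : ev c n (LaurentPolynomial.C x) = LaurentPolynomial.C x := by
  simp [ev, LaurentPolynomial.eval₂_C]

theorem ev_T (c : Lˣ) (n m : ℤ) :
    ev c n (T m) = LaurentPolynomial.C ((c : L) ^ m) * T (n * m) := by
  rw [ev, LaurentPolynomial.eval₂_T, mul_zpow, Units.val_mul, unit_T_zpow, ← map_zpow,
    Units.coe_map, Units.val_zpow_eq_zpow_val]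
  rfl

theorem tau_mul (hg : IsLin g) (hh : IsLin h) (hgh : IsLin (g * h)) :
    nn D hgh = nn D hg * nn D hh ∧ cc D hgh = cc D hh * cc D hg ^ nn D hh := by
  obtain ⟨g0, t1, t1', -⟩ := cc_nn_spec D hg
  obtain ⟨h0, t2, t2', -⟩ := cc_nn_spec D hh
  obtain ⟨gh0, t3, -, -⟩ := cc_nn_spec D hgh
  set E := ev (Units.mk0 _ g0) (nn D hg)
  have hgen := phi_gen D
  have hT1 : E (T 1) = tau D g := by rw [t1, ev_T, Units.val_mk0, zpow_one, mul_one]
  have hT2 : E (T (-1)) = tau' D g := by
    rw [t1', ev_T, Units.val_mk0, zpow_neg_one, mul_neg, mul_one]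
  have hdiff : LaurentPolynomial.C (D.α - D.β) * E (phi D (elB D)) =
      LaurentPolynomial.C (D.α - D.β) * phi D (g (elB D)) := by
    rw [phi_elB_eq, ← hT1, ← hT2, ← map_sub, ← hgen.1, ← hgen.2, ← ev_C (Units.mk0 _ g0) (nn D hg)
      (D.α - D.β), ← map_mul, map_sub]
    congr 1; ring
  have hB : E (phi D (elB D)) = phi D (g (elB D)) :=
    ((isUnit_iff_ne_zero.2 D.sub_ne_zero).map
      (LaurentPolynomial.C : L →+* L[T;T⁻¹])).mul_right_injective hdiff
  have hA : E (phi D (elA D)) = phi D (g (elA D)) := by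
    have := hT1
    rw [← hgen.1, map_add, map_mul, ev_C, hB, tau] at this
    exact add_right_cancel this
  have hhom : E.comp (phi D) = (phi D).comp g.toRingHom :=
    eq_of_AB D D.isHomogeneous (fun c => ⟨by rw [RingHom.comp_apply, phi_smul_one, scal,
      RingHom.comp_apply, ev_C], phi_g_smul_one D hg c⟩) hA hB
  have e : tau D (g * h) = E (tau D h) := by
    rw [tau, tau, map_add, map_mul, ev_C]
    exact congrArg₂ (fun a b => a + LaurentPolynomial.C D.α * b)
      (DFunLike.congr_fun hhom (h (elA D))).symm (DFunLike.congr_fun hhom (h (elB D))).symm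
  rw [t3, t2, map_mul, ev_C, ev_T, ← mul_assoc, ← map_mul, Units.val_mk0] at e
  exact C_mul_T_inj gh0 e

theorem nn_one (h1 : IsLin (1 : CR q ≃+* CR q)) : nn D h1 = 1 ∧ cc D h1 = 1 := by
  obtain ⟨c0, t1, -, -⟩ := cc_nn_spec D h1
  have e : tau D (1 : CR q ≃+* CR q) = LaurentPolynomial.C 1 * T 1 := by
    rw [map_one, one_mul, ← (phi_gen D).1]; rfl
  exact C_mul_T_inj c0 (t1.symm.trans e)

theorem phi_injective [IsAlgClosed L] : Function.Injective (phi D) := by
  rw [injective_iff_map_eq_zero]
  intro z hz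
  obtain ⟨k, f, hf, rfl⟩ := frac_surjective D.isHomogeneous z
  have hθ : theta D f = 0 := by rw [← phi_frac D k f hf, hz, zero_mul]
  suffices f = 0 by
    subst this
    apply HomogeneousLocalization.val_injective
    rw [val_frac, Localization.mk_zero, HomogeneousLocalization.val_zero]
  refine MvPolynomial.map_injective _ (algebraMap K L).injective ?_
  rw [map_zero]
  set F := MvPolynomial.map (algebraMap K L) f
  have hF : F.IsHomogeneous (k * 2) := hf.map _
  have hmul : F * ((X 0 - MvPolynomial.C D.α * X 1) * (X 0 - MvPolynomial.C D.β * X 1)) = 0 := by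
    refine MvPolynomial.funext fun x => ?_
    simp only [map_mul, map_sub, eval_X, eval_C, map_zero]
    set y := x 0 - D.β * x 1 with hy
    set t := x 0 - D.α * x 1 with ht
    by_cases hy0 : y = 0
    · rw [hy0, mul_zero, mul_zero]
    by_cases ht0 : t = 0
    · rw [ht0, zero_mul, mul_zero]
    let e : L[T;T⁻¹] →+* L := LaurentPolynomial.eval₂ (RingHom.id L) (Units.mk0 (t / y)
      (div_ne_zero ht0 hy0))
    have he : ∀ g : MvPolynomial (Fin 2) K, e (theta D g) =
        eval₂ (algebraMap K L) (fun i => e (theta D (X i))) g := by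
      intro g
      have : e.comp (theta D) = eval₂Hom (algebraMap K L) (fun i => e (theta D (X i))) :=
        MvPolynomial.ringHom_ext (fun r => by simp [theta, scal, e, LaurentPolynomial.eval₂_C])
          (fun i => by simp)
      exact DFunLike.congr_fun this g
    have hxi : ∀ i : Fin 2, x i = y * e (theta D (X i)) := by
      have hsub := D.sub_ne_zero
      intro i
      fin_cases i <;>
      · simp [e, theta, LaurentPolynomial.eval₂_C, LaurentPolynomial.eval₂_T]
        field_simp
        rw [hy, ht]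
        ring
    have hz' : eval x F = y ^ (k * 2) * eval (fun i => e (theta D (X i))) F := by
      conv_lhs => rw [F.as_sum]
      conv_rhs => rw [F.as_sum]
      simp only [map_sum, Finset.mul_sum, eval_monomial]
      refine Finset.sum_congr rfl fun d hd => ?_
      have hd2 : d 0 + d 1 = k * 2 := by
        have := hF (mem_support_iff.1 hd)
        rw [← this, Finsupp.weight_apply, Finsupp.sum_fintype _ _ (fun _ => by simp), Fin.sum_univ_two]
        simp
      simp only [Finsupp.prod_fintype _ _ (fun _ => pow_zero _), Fin.prod_univ_two, hxi 0, hxi 1,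
        ← hd2, pow_add, mul_pow]
      ring
    rw [hz', show eval (fun i => e (theta D (X i))) F = 0 by
      rw [eval_map, ← he f, hθ, map_zero]]
    ring
  refine (mul_eq_zero.1 hmul).resolve_right (mul_ne_zero ?_ ?_) <;>
  · intro h0
    simpa using congrArg (eval ![(1 : L), 0]) h0

end

end Groth.Agent.H83.ConjPair
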