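import Mathlib.RingTheory.GradedAlgebra.HomogeneousLocalization
import Mathlib.RingTheory.MvPolynomial.Homogeneous
import Mathlib.RingTheory.Localization.Away.Basic
import Mathlib.Algebra.Polynomial.Laurent
import Mathlib.Algebra.MvPolynomial.Funext
import Mathlib.FieldTheory.IsAlgClosed.AlgebraicClosure
import Mathlib.FieldTheory.Normal.Basic
import Mathlib.Tactic.LinearCombination

/-!
# The complement of a conjugate pair of points on the projective line

* `Data`: a split binary quadratic form over an extension `L`, with a conjugation;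
* `phi`: the embedding of the coordinate ring into Laurent polynomials over `L`;
* `hom_ext`: the coordinate ring is generated by `X²/q`, `XY/q`, `Y²/q`.
-/

set_option autoImplicit false
set_option linter.unusedSectionVars false

universe u

open MvPolynomial
open scoped LaurentPolynomial
open LaurentPolynomial (T T_add T_zero isUnit_T)

attribute [local instance] MvPolynomial.gradedAlgebra

namespace Groth.Agent.H83.ConjPair

variable {K : Type u} [Field K]

/-- The coordinate ring of the complement of `q = 0`. -/
abbrev CR (q : MvPolynomial (Fin 2) K) : Type u :=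
  HomogeneousLocalization.Away (MvPolynomial.homogeneousSubmodule (Fin 2) K) q

variable {q : MvPolynomial (Fin 2) K}

/-- The fraction `f / q ^ k`. -/
noncomputable def frac (hq : q.IsHomogeneous 2) (k : ℕ) (f : MvPolynomial (Fin 2) K)
    (hf : f.IsHomogeneous (k * 2)) : CR q :=
  HomogeneousLocalization.Away.mk (MvPolynomial.homogeneousSubmodule (Fin 2) K)
    ((MvPolynomial.mem_homogeneousSubmodule 2 q).2 hq) k f
    ((MvPolynomial.mem_homogeneousSubmodule _ f).2 (by simpa using hf))

theorem val_frac (hq : q.IsHomogeneous 2) (k : ℕ) (f : MvPolynomial (Fin 2) K)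
    (hf : f.IsHomogeneous (k * 2)) :
    (frac hq k f hf).val =
      (Localization.mk f (⟨q ^ k, k, rfl⟩ : Submonoid.powers q) : Localization.Away q) := rfl

theorem frac_surjective (hq : q.IsHomogeneous 2) (z : CR q) :
    ∃ k f hf, frac hq k f hf = z := by
  obtain ⟨k, f, hf, h⟩ := HomogeneousLocalization.Away.mk_surjective
    (MvPolynomial.homogeneousSubmodule (Fin 2) K) ((MvPolynomial.mem_homogeneousSubmodule 2 q).2 hq) z
  exact ⟨k, f, by simpa using (MvPolynomial.mem_homogeneousSubmodule _ f).1 hf, h⟩

theorem frac_add (hq : q.IsHomogeneous 2) (k : ℕ) (f g : MvPolynomial (Fin 2) K)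
    (hf : f.IsHomogeneous (k * 2)) (hg : g.IsHomogeneous (k * 2)) :
    frac hq k (f + g) (hf.add hg) = frac hq k f hf + frac hq k g hg := by
  apply HomogeneousLocalization.val_injective
  rw [HomogeneousLocalization.val_add, val_frac, val_frac, val_frac]
  exact (Localization.add_mk_self _ _ _).symm

theorem frac_mul (hq : q.IsHomogeneous 2) {j k l : ℕ} (f g e : MvPolynomial (Fin 2) K)
    (hf : f.IsHomogeneous (j * 2)) (hg : g.IsHomogeneous (k * 2)) (he : e.IsHomogeneous (l * 2))
    (h : f * g * q ^ l = e * q ^ (j + k)) :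
    frac hq j f hf * frac hq k g hg = frac hq l e he := by
  apply HomogeneousLocalization.val_injective
  rw [HomogeneousLocalization.val_mul, val_frac, val_frac, val_frac, Localization.mk_mul]
  refine Localization.mk_eq_mk_iff.2 (Localization.r_of_eq ?_)
  simp only [Submonoid.coe_mul, ← pow_add]
  linear_combination h

theorem frac_smul (hq : q.IsHomogeneous 2) (c : K) (k : ℕ) (f : MvPolynomial (Fin 2) K)
    (hf : f.IsHomogeneous (k * 2)) :
    frac hq k (c • f) (by rw [MvPolynomial.smul_eq_C_mul]; exact hf.C_mul c) =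
      c • frac hq k f hf := by
  apply HomogeneousLocalization.val_injective
  rw [HomogeneousLocalization.val_smul, val_frac, val_frac, Localization.smul_mk]

theorem smul_eq_mul_one (c : K) (z : CR q) : c • z = (c • (1 : CR q)) * z := by
  apply HomogeneousLocalization.val_injective
  rw [HomogeneousLocalization.val_mul, HomogeneousLocalization.val_smul,
    HomogeneousLocalization.val_smul, HomogeneousLocalization.val_one, smul_mul_assoc, one_mul]

/-- The scalars of the coordinate ring. -/
noncomputable def scalR : K →+* CR q where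
  toFun c := c • (1 : CR q)
  map_one' := by
    apply HomogeneousLocalization.val_injective
    rw [HomogeneousLocalization.val_smul, one_smul]
  map_mul' c d := by
    apply HomogeneousLocalization.val_injective
    simp only [HomogeneousLocalization.val_smul, HomogeneousLocalization.val_mul,
      HomogeneousLocalization.val_one, smul_mul_smul_comm, one_mul]
  map_zero' := by
    apply HomogeneousLocalization.val_injective
    rw [HomogeneousLocalization.val_smul, zero_smul, HomogeneousLocalization.val_zero]
  map_add' c d := by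
    apply HomogeneousLocalization.val_injective
    simp only [HomogeneousLocalization.val_smul, HomogeneousLocalization.val_add, add_smul]

theorem smul_eq_scalR (c : K) (z : CR q) : c • z = scalR c * z := smul_eq_mul_one c z

/-- `X²/q`. -/
noncomputable def uE (hq : q.IsHomogeneous 2) : CR q :=
  frac hq 1 (X 0 ^ 2) ((isHomogeneous_X K 0).pow 2)

/-- `XY/q`. -/
noncomputable def vE (hq : q.IsHomogeneous 2) : CR q :=
  frac hq 1 (X 0 * X 1) ((isHomogeneous_X K 0).mul (isHomogeneous_X K 1))

/-- `Y²/q`. -/
noncomputable def wE (hq : q.IsHomogeneous 2) : CR q :=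
  frac hq 1 (X 1 ^ 2) ((isHomogeneous_X K 1).pow 2)

/-- Two ring maps out of the coordinate ring agree if they agree on scalars and generators. -/
theorem hom_ext (hq : q.IsHomogeneous 2) {S : Type*} [CommRing S] {h₁ h₂ : CR q →+* S}
    (hc : ∀ c : K, h₁ (c • 1) = h₂ (c • 1)) (hu : h₁ (uE hq) = h₂ (uE hq))
    (hv : h₁ (vE hq) = h₂ (vE hq)) (hw : h₁ (wE hq) = h₂ (wE hq)) : h₁ = h₂ := by
  have hh : ∀ i j, (X 0 ^ i * X 1 ^ j : MvPolynomial (Fin 2) K).IsHomogeneous (i + j) := by
    intro i j
    simpa using ((isHomogeneous_X K (0 : Fin 2)).pow i).mul ((isHomogeneous_X K (1 : Fin 2)).pow j)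
  have mono : ∀ k i j (hij : i + j = k * 2), h₁ (frac hq k (X 0 ^ i * X 1 ^ j) (hij ▸ hh i j)) =
      h₂ (frac hq k (X 0 ^ i * X 1 ^ j) (hij ▸ hh i j)) := by
    intro k
    induction k with
    | zero =>
      intro i j hij
      obtain ⟨rfl, rfl⟩ : i = 0 ∧ j = 0 := by omega
      have : frac hq 0 (X 0 ^ 0 * X 1 ^ 0) (hij ▸ hh 0 0) = 1 := by
        apply HomogeneousLocalization.val_injective
        rw [val_frac, HomogeneousLocalization.val_one, ← Localization.mk_one]
        congr 1 <;> simp
      rw [this, map_one, map_one]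
    | succ k ih =>
      intro i j hij
      rcases Nat.lt_or_ge 1 i with hi | hi
      · rw [← frac_mul hq (j := 1) (k := k) (X 0 ^ 2) (X 0 ^ (i - 2) * X 1 ^ j) _
          ((isHomogeneous_X K 0).pow 2)
          ((show i - 2 + j = k * 2 by omega) ▸ hh (i - 2) j) (hij ▸ hh i j) (by
            have : (X 0 : MvPolynomial (Fin 2) K) ^ i = X 0 ^ 2 * X 0 ^ (i - 2) := by
              rw [← pow_add]; congr 1; omega
            rw [this, add_comm 1 k]; ring)]
        simp only [map_mul]
        exact congrArg₂ (· * ·) hu (ih _ _ (by omega))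
      rcases Nat.lt_or_ge 1 j with hj | hj
      · rw [← frac_mul hq (j := 1) (k := k) (X 1 ^ 2) (X 0 ^ i * X 1 ^ (j - 2)) _
          ((isHomogeneous_X K 1).pow 2)
          ((show i + (j - 2) = k * 2 by omega) ▸ hh i (j - 2)) (hij ▸ hh i j) (by
            have : (X 1 : MvPolynomial (Fin 2) K) ^ j = X 1 ^ 2 * X 1 ^ (j - 2) := by
              rw [← pow_add]; congr 1; omega
            rw [this, add_comm 1 k]; ring)]
        simp only [map_mul]
        exact congrArg₂ (· * ·) hw (ih _ _ (by omega))
      · obtain ⟨rfl, rfl, rfl⟩ : i = 1 ∧ j = 1 ∧ k = 0 := by omega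
        simp only [pow_one]
        exact hv
  refine RingHom.ext fun z => ?_
  obtain ⟨k, f, hf, rfl⟩ := frac_surjective hq z
  have hsum : ∀ s : Finset (Fin 2 →₀ ℕ), (∀ d ∈ s, d.degree = k * 2) →
      ∃ hs, h₁ (frac hq k (∑ d ∈ s, monomial d (coeff d f)) hs) =
        h₂ (frac hq k (∑ d ∈ s, monomial d (coeff d f)) hs) := by
    intro s
    classical
    induction s using Finset.induction_on with
    | empty =>
      intro _
      refine ⟨by rw [Finset.sum_empty]; exact isHomogeneous_zero _ _ _, ?_⟩
      have : ∀ hs, frac hq k (∑ d ∈ (∅ : Finset (Fin 2 →₀ ℕ)), monomial d (coeff d f)) hs = 0 := by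
        intro hs
        apply HomogeneousLocalization.val_injective
        rw [val_frac, HomogeneousLocalization.val_zero]
        simp [Localization.mk_zero]
      rw [this, map_zero, map_zero]
    | insert d s hd ih =>
      intro hdeg
      obtain ⟨hs, hrec⟩ := ih fun e he => hdeg e (Finset.mem_insert_of_mem he)
      have hd2 := hdeg d (Finset.mem_insert_self d s)
      have hsum2 : d 0 + d 1 = k * 2 := by
        rw [← hd2, Finsupp.degree_eq_sum, Fin.sum_univ_two]
      have hm : monomial d (coeff d f) = coeff d f • (X 0 ^ d 0 * X 1 ^ d 1 : MvPolynomial (Fin 2) K) := by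
        rw [monomial_eq, Finsupp.prod_fintype _ _ (fun _ => pow_zero _), Fin.prod_univ_two,
          MvPolynomial.smul_eq_C_mul]
      have hmh : (coeff d f • (X 0 ^ d 0 * X 1 ^ d 1 : MvPolynomial (Fin 2) K)).IsHomogeneous (k * 2) := by
        rw [MvPolynomial.smul_eq_C_mul]; exact (hsum2 ▸ hh (d 0) (d 1)).C_mul _
      refine ⟨by rw [Finset.sum_insert hd, hm]; exact hmh.add hs, ?_⟩
      have e : ∀ hs', frac hq k (∑ e ∈ insert d s, monomial e (coeff e f)) hs' =
          (coeff d f • (1 : CR q)) * frac hq k (X 0 ^ d 0 * X 1 ^ d 1) (hsum2 ▸ hh (d 0) (d 1)) +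
            frac hq k (∑ e ∈ s, monomial e (coeff e f)) hs := by
        intro hs'
        rw [← smul_eq_mul_one, ← frac_smul, ← frac_add]
        congr 1
        rw [Finset.sum_insert hd, hm]
      rw [e]
      simp only [map_add, map_mul, hc, hrec, mono k _ _ hsum2]
  obtain ⟨hs, h⟩ := hsum f.support fun d hd => by
    have := hf (mem_support_iff.1 hd)
    rw [Finsupp.degree_eq_weight_one]; exact this
  simpa only [← f.as_sum] using h

/-- A splitting of the quadratic form over `L` with a conjugation. -/
structure Data (q : MvPolynomial (Fin 2) K) (L : Type u) [Field L] [Algebra K L] where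
  /-- leading coefficient -/
  a : K
  /-- sum of the roots -/
  s : K
  /-- product of the roots -/
  p : K
  /-- a root -/
  α : L
  /-- the other root -/
  β : L
  /-- the conjugation -/
  σ : L →ₐ[K] L
  a_ne : a ≠ 0
  q_eq : q = C a * (X 0 ^ 2 - C s * (X 0 * X 1) + C p * X 1 ^ 2)
  disc : s ^ 2 - 4 * p ≠ 0
  hs : α + β = algebraMap K L s
  hp : α * β = algebraMap K L p
  σα : σ α = β
  σβ : σ β = α

variable {L : Type u} [Field L] [Algebra K L] (D : Data q L)

theorem Data.sub_ne_zero (D : Data q L) : D.α - D.β ≠ 0 := by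
  intro h
  refine D.disc ((algebraMap K L).injective ?_)
  rw [map_sub, map_pow, map_mul, ← D.hs, ← D.hp, map_zero, map_ofNat]
  linear_combination (D.α - D.β) * h

theorem Data.isHomogeneous (D : Data q L) : q.IsHomogeneous 2 := by
  rw [D.q_eq]
  exact (((isHomogeneous_X K 0).pow 2).sub
    (((isHomogeneous_X K 0).mul (isHomogeneous_X K 1)).C_mul _)).add
    (((isHomogeneous_X K 1).pow 2).C_mul _) |>.C_mul _

/-- Scalars in the Laurent polynomials. -/
noncomputable def scal : K →+* L[T;T⁻¹] := LaurentPolynomial.C.comp (algebraMap K L)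

/-- Dehomogenisation in the coordinate `T`. -/
noncomputable def theta : MvPolynomial (Fin 2) K →+* L[T;T⁻¹] :=
  eval₂Hom scal ![LaurentPolynomial.C (D.α - D.β)⁻¹ *
      (LaurentPolynomial.C D.α - LaurentPolynomial.C D.β * T 1),
    LaurentPolynomial.C (D.α - D.β)⁻¹ * (1 - T 1)]

theorem theta_X_sub : theta D (X 0) - LaurentPolynomial.C D.α * theta D (X 1) = T 1 ∧
    theta D (X 0) - LaurentPolynomial.C D.β * theta D (X 1) = 1 := by
  have hι : LaurentPolynomial.C (D.α - D.β)⁻¹ *
      (LaurentPolynomial.C D.α - LaurentPolynomial.C D.β) = (1 : L[T;T⁻¹]) := by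
    rw [← map_sub, ← map_mul, inv_mul_cancel₀ D.sub_ne_zero, map_one]
  simp only [theta, eval₂Hom_X', Matrix.cons_val_zero, Matrix.cons_val_one]
  constructor
  · linear_combination (T 1 : L[T;T⁻¹]) * hι
  · linear_combination hι

theorem theta_q : theta D q = scal D.a * T 1 := by
  obtain ⟨h1, h2⟩ := theta_X_sub D
  refine (congrArg (theta D) D.q_eq).trans ?_
  have hsc : ∀ r : K, theta D (MvPolynomial.C r) = scal r := fun r => eval₂Hom_C _ _ r
  simp only [map_mul, map_add, map_sub, map_pow, hsc]
  simp only [scal, RingHom.comp_apply, ← D.hs, ← D.hp, map_add, map_mul]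
  linear_combination LaurentPolynomial.C (algebraMap K L D.a) *
    ((theta D (X 0) - LaurentPolynomial.C D.β * theta D (X 1)) * h1 + T 1 * h2)

theorem isUnit_theta_q : IsUnit (theta D q) := by
  rw [theta_q]
  exact ((isUnit_iff_ne_zero.2 D.a_ne).map scal).mul (isUnit_T 1)

/-- The embedding into Laurent polynomials. -/
noncomputable def phi : CR q →+* L[T;T⁻¹] :=
  (Localization.awayLift (theta D) q (isUnit_theta_q D)).comp
    { toFun := HomogeneousLocalization.val
      map_one' := HomogeneousLocalization.val_one
      map_mul' := HomogeneousLocalization.val_mul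
      map_zero' := HomogeneousLocalization.val_zero
      map_add' := HomogeneousLocalization.val_add }

theorem phi_frac (k : ℕ) (f : MvPolynomial (Fin 2) K) (hf : f.IsHomogeneous (k * 2)) :
    phi D (frac D.isHomogeneous k f hf) * theta D q ^ k = theta D f := by
  have he : algebraMap (MvPolynomial (Fin 2) K) (Localization.Away q) f =
      (frac D.isHomogeneous k f hf).val *
        algebraMap (MvPolynomial (Fin 2) K) (Localization.Away q) (q ^ k) := by
    rw [val_frac, ← Localization.mk_one_eq_algebraMap, ← Localization.mk_one_eq_algebraMap,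
      Localization.mk_mul]
    refine Localization.mk_eq_mk_iff.2 (Localization.r_of_eq ?_)
    simp only [Submonoid.coe_mul, OneMemClass.coe_one]
    ring
  have := congrArg (Localization.awayLift (theta D) q (isUnit_theta_q D)) he
  simp only [Localization.awayLift, map_mul, IsLocalization.Away.lift_eq, map_pow] at this
  exact this.symm

theorem phi_smul (c : K) (z : CR q) : phi D (c • z) = scal c * phi D z := by
  obtain ⟨k, f, hf, rfl⟩ := frac_surjective D.isHomogeneous z
  rw [← frac_smul D.isHomogeneous c k f hf]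
  refine ((isUnit_theta_q D).pow k).mul_left_injective ?_
  simp only
  rw [phi_frac, mul_assoc, phi_frac, MvPolynomial.smul_eq_C_mul, map_mul]
  congr 1
  exact eval₂Hom_C _ _ c

theorem phi_smul_one (c : K) : phi D (c • (1 : CR q)) = scal c := by
  rw [phi_smul, map_one, mul_one]

/-- The element `A`. -/
noncomputable def elA : CR q :=
  D.a • (uE D.isHomogeneous + (-D.p) • wE D.isHomogeneous)

/-- The element `B`. -/
noncomputable def elB : CR q :=
  D.a • ((-2 : K) • vE D.isHomogeneous + D.s • wE D.isHomogeneous)

theorem elA_elB_norm : elA D * elA D + scalR D.s * (elA D * elB D) +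
    scalR D.p * (elB D * elB D) = 1 := by
  set hq := D.isHomogeneous
  have huw : uE hq * wE hq = vE hq * vE hq := by
    rw [vE, frac_mul hq (l := 2) (X 0 * X 1) (X 0 * X 1) (X 0 ^ 2 * X 1 ^ 2) _ _
      (((isHomogeneous_X K 0).pow 2).mul ((isHomogeneous_X K 1).pow 2)) (by ring), uE, wE]
    exact frac_mul hq (X 0 ^ 2) (X 1 ^ 2) _ _ _ _ (by ring)
  have hone : scalR D.a * (uE hq - scalR D.s * vE hq + scalR D.p * wE hq) = 1 := by
    rw [sub_eq_add_neg, show -(scalR D.s * vE hq) = scalR (-D.s) * vE hq by rw [map_neg]; ring, ← smul_eq_scalR, ← smul_eq_scalR, ← smul_eq_scalR]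
    apply HomogeneousLocalization.val_injective
    simp only [HomogeneousLocalization.val_smul, HomogeneousLocalization.val_add, uE, vE, wE,
      val_frac, Localization.smul_mk, Localization.add_mk_self, HomogeneousLocalization.val_one]
    rw [← Localization.mk_one]
    refine Localization.mk_eq_mk_iff.2 (Localization.r_of_eq ?_)
    simp only [OneMemClass.coe_one, one_mul, mul_one, pow_one, MvPolynomial.smul_eq_C_mul, map_neg]
    conv_rhs => rw [D.q_eq]
    ring
  simp only [elA, elB, smul_eq_scalR, map_neg, map_ofNat]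
  linear_combination (scalR D.a * (uE hq - scalR D.s * vE hq + scalR D.p * wE hq) + 1) * hone +
    scalR D.a ^ 2 * (scalR D.s ^ 2 - 4 * scalR D.p) * huw

theorem phi_gen : phi D (elA D) + LaurentPolynomial.C D.α * phi D (elB D) = T 1 ∧
    phi D (elA D) + LaurentPolynomial.C D.β * phi D (elB D) = T (-1) := by
  obtain ⟨h1, h2⟩ := theta_X_sub D
  have hu : phi D (uE D.isHomogeneous) * theta D q ^ 1 = _ := phi_frac D 1 (X 0 ^ 2) ((isHomogeneous_X K 0).pow 2)
  have hv : phi D (vE D.isHomogeneous) * theta D q ^ 1 = _ := phi_frac D 1 (X 0 * X 1) ((isHomogeneous_X K 0).mul (isHomogeneous_X K 1))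
  have hw : phi D (wE D.isHomogeneous) * theta D q ^ 1 = _ := phi_frac D 1 (X 1 ^ 2) ((isHomogeneous_X K 1).pow 2)
  rw [pow_one, theta_q] at hu hv hw
  simp only [map_mul, map_pow] at hu hv hw
  have hT : (T 1 : L[T;T⁻¹]) * T (-1) = 1 := by rw [← T_add, add_neg_cancel, T_zero]
  simp only [elA, elB, phi_smul, map_add]
  simp only [scal, RingHom.comp_apply, map_neg, map_ofNat, ← D.hs, ← D.hp, map_add, map_mul]
    at hu hv hw ⊢
  constructor
  · refine (isUnit_T (R := L) 1).mul_left_injective ?_
    simp only
    linear_combination hu - 2 * LaurentPolynomial.C D.α * hv +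
      LaurentPolynomial.C D.α ^ 2 * hw +
      ((theta D (X 0) - LaurentPolynomial.C D.α * theta D (X 1)) + T 1) * h1
  · refine (isUnit_T (R := L) 1).mul_left_injective ?_
    simp only
    linear_combination hu - 2 * LaurentPolynomial.C D.β * hv +
      LaurentPolynomial.C D.β ^ 2 * hw +
      ((theta D (X 0) - LaurentPolynomial.C D.β * theta D (X 1)) + 1) * h2 - hT

end Groth.Agent.H83.ConjPair
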