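import Groth.Agent.Lib.Regular45.QuasiReg
import Mathlib

/-! `J ∩ Rⁿ` for `R` generated by a sequence which is regular modulo `J`. -/

set_option autoImplicit false
universe u

open MvPolynomial RingTheory.Sequence CAlgX Groth.Agent.Lib.Regular45.QuasiReg

namespace Groth.Agent.H83.InfPow

variable {A : Type u} [CommRing A] (J : Ideal A) {r : ℕ} (f : Fin r → A)

set_option maxHeartbeats 1000000 in
theorem step (hf : IsWeaklyRegular (A ⧸ J) (List.ofFn f)) (n : ℕ) :
    J ⊓ Ideal.span (Set.range f) ^ n ≤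
      J * Ideal.span (Set.range f) ^ n ⊔ J ⊓ Ideal.span (Set.range f) ^ (n + 1) := by
  rintro x ⟨hxJ, hxR⟩
  set R := Ideal.span (Set.range f) with hR
  let g : Fin r → A ⧸ J := Ideal.Quotient.mk J ∘ f
  have hg : IsQuasiRegular g := by
    refine quasiRegular_of_isWeaklyRegular g ?_
    rw [← List.map_ofFn]
    exact (isWeaklyRegular_map_algebraMap_iff (A ⧸ J) (A ⧸ J) _).mpr hf
  obtain ⟨P, hP, rfl⟩ := (Ideal.mem_span_pow_iff_exists_isHomogeneous f x).mp hxR
  have hco : ∀ d, P.coeff d ∈ R ⊔ J := by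
    intro d
    have h1 := hg n (MvPolynomial.map (Ideal.Quotient.mk J) P) (hP.map _) (by
      have : eval g (MvPolynomial.map (Ideal.Quotient.mk J) P) = Ideal.Quotient.mk J (eval f P) := by
        rw [eval_map, ← eval₂_comp]
      rw [this, Ideal.Quotient.eq_zero_iff_mem.mpr hxJ]
      exact zero_mem _) d
    have hm : Ideal.span (Set.range g) = R.map (Ideal.Quotient.mk J) := by
      rw [hR, Ideal.map_span, ← Set.range_comp]
    rw [coeff_map, hm, ← Ideal.mem_comap, Ideal.comap_map_of_surjective _ Ideal.Quotient.mk_surjective,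
      ← RingHom.ker_eq_comap_bot, Ideal.mk_ker] at h1
    exact h1
  have h2 := eval_mem_mul_pow f (R ⊔ J) hP hco
  rw [Ideal.sup_mul, ← pow_succ', Submodule.mem_sup] at h2
  obtain ⟨a, ha, b, hb, hab⟩ := h2
  have hbJ : b ∈ J := Ideal.mul_le_left hb
  refine Submodule.mem_sup.mpr ⟨b, hb, a, ⟨?_, ha⟩, by rw [← hab, add_comm]⟩
  rw [eq_sub_of_add_eq hab]
  exact J.sub_mem hxJ hbJ

theorem inf_pow_eq (hf : IsWeaklyRegular (A ⧸ J) (List.ofFn f)) (n N : ℕ) (hnN : n ≤ N) :
    J ⊓ Ideal.span (Set.range f) ^ n =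
      J * Ideal.span (Set.range f) ^ n ⊔ J ⊓ Ideal.span (Set.range f) ^ N := by
  apply le_antisymm
  · induction N, hnN using Nat.le_induction with
    | base => exact le_sup_right
    | succ N hnN ih =>
      refine ih.trans (sup_le le_sup_left ((step J f hf N).trans (sup_le_sup ?_ le_rfl)))
      exact Ideal.mul_mono_right (Ideal.pow_le_pow_right hnN)
  · exact sup_le (le_inf Ideal.mul_le_left Ideal.mul_le_right)
      (inf_le_inf le_rfl (Ideal.pow_le_pow_right hnN))

theorem inf_pow_eq_mul [IsNoetherianRing A] (hf : IsWeaklyRegular (A ⧸ J) (List.ofFn f))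
    (hrad : Ideal.span (Set.range f) ≤ (⊥ : Ideal A).jacobson) (n : ℕ) :
    J ⊓ Ideal.span (Set.range f) ^ n = J * Ideal.span (Set.range f) ^ n := by
  refine le_antisymm ?_ (le_inf Ideal.mul_le_left Ideal.mul_le_right)
  intro x hx
  set K := J * Ideal.span (Set.range f) ^ n with hK
  have hmem : Ideal.Quotient.mk K x ∈ ⨅ N : ℕ, Ideal.span (Set.range f) ^ N • (⊤ : Submodule A (A ⧸ K)) := by
    rw [Submodule.mem_iInf]
    intro N
    have hx' : x ∈ K ⊔ Ideal.span (Set.range f) ^ (max n N) := by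
      rw [inf_pow_eq J f hf n (max n N) (le_max_left _ _)] at hx
      exact (sup_le_sup (le_refl K) (inf_le_right : J ⊓ Ideal.span (Set.range f) ^ max n N ≤ Ideal.span (Set.range f) ^ max n N)) hx
    obtain ⟨a, ha, b, hb, rfl⟩ := Submodule.mem_sup.mp hx'
    rw [map_add, Ideal.Quotient.eq_zero_iff_mem.mpr ha, zero_add]
    have : Ideal.Quotient.mk K b = b • (1 : A ⧸ K) := by
      rw [Algebra.smul_def, mul_one]; rfl
    rw [this]
    exact Submodule.smul_mem_smul (Ideal.pow_le_pow_right (le_max_right _ _) hb) trivial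
  rw [Ideal.iInf_pow_smul_eq_bot_of_le_jacobson _ hrad] at hmem
  exact Ideal.Quotient.eq_zero_iff_mem.mp ((Submodule.mem_bot A).mp hmem)

theorem inf_sq_eq_mul [IsNoetherianRing A] (hf : IsWeaklyRegular (A ⧸ J) (List.ofFn f))
    (hrad : Ideal.span (Set.range f) ≤ (⊥ : Ideal A).jacobson) :
    J ⊓ (J ⊔ Ideal.span (Set.range f)) ^ 2 = J * (J ⊔ Ideal.span (Set.range f)) := by
  set R := Ideal.span (Set.range f) with hR
  refine le_antisymm ?_ (le_inf Ideal.mul_le_left ?_)
  · rintro x ⟨hxJ, hxQ⟩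
    have hle : (J ⊔ R) ^ 2 ≤ J * (J ⊔ R) ⊔ R ^ 2 := by
      rw [pow_two, Ideal.sup_mul]
      refine sup_le le_sup_left ?_
      rw [Ideal.mul_sup]
      exact sup_le (le_trans (by rw [mul_comm]; exact Ideal.mul_mono_right le_sup_right) le_sup_left)
        (by rw [pow_two]; exact le_sup_right)
    obtain ⟨a, ha, b, hb, rfl⟩ := Submodule.mem_sup.mp (hle hxQ)
    have hbJ : b ∈ J := by
      have := J.sub_mem hxJ (Ideal.mul_le_left ha)
      rwa [add_sub_cancel_left] at this
    refine Ideal.add_mem _ ha ?_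
    have : b ∈ J * R ^ 2 := (inf_pow_eq_mul J f hf hrad 2).le ⟨hbJ, hb⟩
    exact Ideal.mul_mono_right ((Ideal.pow_le_self two_ne_zero).trans le_sup_right) this
  · rw [pow_two]
    exact Ideal.mul_mono_left le_sup_left

end Groth.Agent.H83.InfPow
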