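import Mathlib

/-! The graded ring `S♮ = ⊕ S_{≥ n} X^n` of a positively graded ring. -/

set_option autoImplicit false
universe u

open DirectSum Polynomial

namespace Groth.Agent.H83.NaturalGraded

variable {R A : Type u} [CommRing R] [CommRing A] [Algebra R A]
  (𝒜 : ℕ → Submodule R A) [GradedAlgebra 𝒜]

/-- A finite family of homogeneous elements of positive degree generating `S₊`. -/
structure Gens where
  /-- the elements, with their degrees -/
  F : Finset (ℕ × A)
  mem : ∀ f ∈ F, f.2 ∈ 𝒜 f.1 ∧ 0 < f.1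
  span : ∀ (m : ℕ) (a : A), 0 < m → a ∈ 𝒜 m → a ∈ Ideal.span (Prod.snd '' (F : Set (ℕ × A)))

/-- Positive degree components of a finite set. -/
noncomputable def posComp (s : Finset A) : Finset (ℕ × A) := by
  classical
  exact s.biUnion fun g =>
    ((DFinsupp.support (decompose 𝒜 g)).filter (fun i => 0 < i)).image
      fun i => (i, ((decompose 𝒜 g i : 𝒜 i) : A))

theorem posComp_mem (s : Finset A) : ∀ f ∈ posComp 𝒜 s, f.2 ∈ 𝒜 f.1 ∧ 0 < f.1 := by
  classical
  intro f hf
  simp only [posComp, Finset.mem_biUnion, Finset.mem_image, Finset.mem_filter] at hf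
  obtain ⟨g, -, i, ⟨-, hi⟩, rfl⟩ := hf
  exact ⟨(decompose 𝒜 g i).2, hi⟩

theorem sub_proj_mem (s : Finset A) {g : A} (hg : g ∈ s) :
    g - (decompose 𝒜 g 0 : A) ∈ Ideal.span (Prod.snd '' (posComp 𝒜 s : Set (ℕ × A))) := by
  classical
  have h := DirectSum.sum_support_decompose 𝒜 g
  have h2 : g - (decompose 𝒜 g 0 : A) =
      ∑ i ∈ (DFinsupp.support (decompose 𝒜 g)).filter (fun i => 0 < i), ((decompose 𝒜 g i : 𝒜 i) : A) := by
    rw [sub_eq_iff_eq_add]
    conv_lhs => rw [← h, ← Finset.sum_filter_add_sum_filter_not _ (fun i => 0 < i)]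
    congr 1
    rw [Finset.sum_eq_single 0]
    · intro i hi h0
      simp only [Finset.mem_filter] at hi
      omega
    · intro h0
      by_contra hne
      refine h0 (Finset.mem_filter.mpr ⟨(DFinsupp.mem_support_toFun _ _).mpr fun he => hne ?_, Nat.lt_irrefl 0⟩)
      rw [he]; rfl
  rw [h2]
  refine Ideal.sum_mem _ fun i hi => Ideal.subset_span ⟨(i, _), ?_, rfl⟩
  simp only [posComp, Finset.coe_biUnion, Set.mem_iUnion, Finset.mem_coe, Finset.mem_image]
  exact ⟨g, hg, i, hi, rfl⟩

theorem gens_of_fg (h : (HomogeneousIdeal.irrelevant 𝒜).toIdeal.FG) : Nonempty (Gens 𝒜) := by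
  obtain ⟨s, hs⟩ := h
  refine ⟨⟨posComp 𝒜 s, posComp_mem 𝒜 s, fun m a hm ha => ?_⟩⟩
  have ha' : a ∈ Ideal.span (s : Set A) := hs.symm ▸ HomogeneousIdeal.mem_irrelevant_of_mem 𝒜 hm ha
  refine Ideal.span_le.mpr (fun g hg => ?_) ha'
  have h0 : (decompose 𝒜 g 0 : A) = 0 := by
    have : g ∈ (HomogeneousIdeal.irrelevant 𝒜).toIdeal := hs ▸ Ideal.subset_span hg
    have := (HomogeneousIdeal.mem_irrelevant_iff 𝒜 g).mp this
    rwa [GradedRing.proj_apply] at this
  have := sub_proj_mem 𝒜 s hg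
  rwa [h0, sub_zero] at this

theorem gens_of_finiteType (h : Algebra.FiniteType (𝒜 0) A) : Nonempty (Gens 𝒜) := by
  obtain ⟨s, hs⟩ := h
  refine ⟨⟨posComp 𝒜 s, posComp_mem 𝒜 s, fun m a hm ha => ?_⟩⟩
  set J := Ideal.span (Prod.snd '' (posComp 𝒜 s : Set (ℕ × A)))
  have key : ∀ x : A, x ∈ Algebra.adjoin (𝒜 0) (s : Set A) → x - (decompose 𝒜 x 0 : A) ∈ J := by
    intro x hx
    induction hx using Algebra.adjoin_induction with
    | mem g hg => exact sub_proj_mem 𝒜 s hg
    | algebraMap r =>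
      rw [decompose_of_mem_same 𝒜 (show algebraMap (𝒜 0) A r ∈ 𝒜 0 from r.2), sub_self]
      exact J.zero_mem
    | add x y _ _ hx hy =>
      rw [decompose_add, DirectSum.add_apply, Submodule.coe_add, add_sub_add_comm]
      exact J.add_mem hx hy
    | mul x y _ _ hx hy =>
      have hm0 : ((decompose 𝒜 (x * y) 0 : 𝒜 0) : A) =
          (decompose 𝒜 x 0 : A) * (decompose 𝒜 y 0 : A) := (GradedRing.projZeroRingHom 𝒜).map_mul x y
      rw [hm0, show x * y - (decompose 𝒜 x 0 : A) * (decompose 𝒜 y 0 : A) =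
        (x - (decompose 𝒜 x 0 : A)) * y + (decompose 𝒜 x 0 : A) * (y - (decompose 𝒜 y 0 : A)) by ring]
      exact J.add_mem (J.mul_mem_right _ hx) (J.mul_mem_left _ hy)
  have := key a (hs ▸ Algebra.mem_top)
  rwa [decompose_of_mem_ne 𝒜 ha (Nat.ne_of_gt hm), sub_zero] at this

theorem finiteType_of_gens (G : Gens 𝒜) : Algebra.FiniteType (𝒜 0) A := by
  classical
  refine ⟨⟨G.F.image Prod.snd, top_unique fun x _ => ?_⟩⟩
  set T := Algebra.adjoin (𝒜 0) (↑(G.F.image Prod.snd) : Set A)
  have key : ∀ (m : ℕ) (a : A), a ∈ 𝒜 m → a ∈ T := by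
    intro m
    induction m using Nat.strong_induction_on with
    | _ m ih =>
      intro a ha
      rcases Nat.eq_zero_or_pos m with rfl | hm
      · exact T.algebraMap_mem (⟨a, ha⟩ : 𝒜 0)
      suffices ∀ z ∈ Ideal.span (Prod.snd '' (G.F : Set (ℕ × A))), ∀ r : A, (decompose 𝒜 (r * z) m : A) ∈ T by
        have h := this a (G.span m a hm ha) 1
        rwa [one_mul, decompose_of_mem_same 𝒜 ha] at h
      intro z hz
      induction hz using Submodule.span_induction with
      | zero => intro r; simp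
      | add u v _ _ hu hv =>
        intro r; rw [mul_add, decompose_add, DirectSum.add_apply, Submodule.coe_add]; exact T.add_mem (hu r) (hv r)
      | smul c u _ hu => intro r; rw [smul_eq_mul, ← mul_assoc]; exact hu _
      | mem z hz =>
        obtain ⟨f, hf, rfl⟩ := hz
        intro r
        induction r using DirectSum.Decomposition.inductionOn 𝒜 with
        | zero => simp
        | add u v hu hv => rw [add_mul, decompose_add, DirectSum.add_apply, Submodule.coe_add]; exact T.add_mem hu hv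
        | @homogeneous l r =>
          have hmem : (r : A) * f.2 ∈ 𝒜 (l + f.1) := SetLike.GradedMul.mul_mem r.2 (G.mem f hf).1
          by_cases h : l + f.1 = m
          · have hf0 := (G.mem f hf).2
            subst h
            rw [decompose_of_mem_same 𝒜 hmem]
            exact T.mul_mem (ih l (by omega) _ r.2)
              (Algebra.subset_adjoin (Finset.mem_coe.mpr (Finset.mem_image_of_mem Prod.snd hf)))
          · rw [decompose_of_mem_ne 𝒜 hmem h]; exact T.zero_mem
  rw [← DirectSum.sum_support_decompose 𝒜 x]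
  exact T.sum_mem fun i _ => key i _ (decompose 𝒜 x i).2

/-- The monomials `X^n f` with `n ≤ deg f`. -/
noncomputable def natGens (G : Gens 𝒜) : Finset A[X] := by
  classical
  exact G.F.biUnion fun f => (Finset.range (f.1 + 1)).image fun n => monomial n f.2

theorem monomial_mem (G : Gens 𝒜) (m : ℕ) : ∀ n ≤ m, ∀ a ∈ 𝒜 m,
    monomial n a ∈ Algebra.adjoin A (natGens 𝒜 G : Set A[X]) := by
  classical
  set T := Algebra.adjoin A (natGens 𝒜 G : Set A[X])
  induction m using Nat.strong_induction_on with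
  | _ m ih =>
    intro n hn a ha
    rcases Nat.eq_zero_or_pos n with rfl | hn0
    · rw [monomial_zero_left]; exact T.algebraMap_mem a
    have hm : 0 < m := by omega
    suffices ∀ z ∈ Ideal.span (Prod.snd '' (G.F : Set (ℕ × A))), ∀ r : A, monomial n (decompose 𝒜 (r * z) m : A) ∈ T by
      have h := this a (G.span m a hm ha) 1
      rwa [one_mul, decompose_of_mem_same 𝒜 ha] at h
    intro z hz
    induction hz using Submodule.span_induction with
    | zero => intro r; simp
    | add u v _ _ hu hv =>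
      intro r; rw [mul_add, decompose_add, DirectSum.add_apply, Submodule.coe_add, map_add]; exact T.add_mem (hu r) (hv r)
    | smul c u _ hu => intro r; rw [smul_eq_mul, ← mul_assoc]; exact hu _
    | mem z hz =>
      obtain ⟨f, hf, rfl⟩ := hz
      intro r
      induction r using DirectSum.Decomposition.inductionOn 𝒜 with
      | zero => simp
      | add u v hu hv => rw [add_mul, decompose_add, DirectSum.add_apply, Submodule.coe_add, map_add]; exact T.add_mem hu hv
      | @homogeneous l r =>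
        have hmem : (r : A) * f.2 ∈ 𝒜 (l + f.1) := SetLike.GradedMul.mul_mem r.2 (G.mem f hf).1
        by_cases h : l + f.1 = m
        · have hf0 := (G.mem f hf).2
          subst h
          rw [decompose_of_mem_same 𝒜 hmem,
            show n = (n - min n f.1) + min n f.1 by omega, ← monomial_mul_monomial]
          refine T.mul_mem (ih l (by omega) _ (by omega) _ r.2) (Algebra.subset_adjoin ?_)
          simp only [natGens, Finset.coe_biUnion, Set.mem_iUnion, Finset.mem_coe, Finset.mem_image,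
            Finset.mem_range]
          exact ⟨f, hf, min n f.1, by omega, rfl⟩
        · rw [decompose_of_mem_ne 𝒜 hmem h]; simp

variable {B : Type u} [CommRing B] [Algebra R B] (ℬ : ℕ → Submodule R B) [GradedAlgebra ℬ]
  (φ : B →ₐ[R] Polynomial A)
  (hdeg : ∀ n : ℕ, Submodule.map φ.toLinearMap (ℬ n) =
      Submodule.map ((Polynomial.monomial n : A →ₗ[A] Polynomial A).restrictScalars R) (⨆ (m : ℕ) (_ : n ≤ m), 𝒜 m))

include hdeg in
theorem exists_preimage {n m : ℕ} (hnm : n ≤ m) {a : A} (ha : a ∈ 𝒜 m) :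
    ∃ b ∈ ℬ n, φ b = monomial n a := by
  have : monomial n a ∈ Submodule.map φ.toLinearMap (ℬ n) := by
    rw [hdeg]
    exact ⟨a, Submodule.mem_iSup_of_mem m (Submodule.mem_iSup_of_mem hnm ha), rfl⟩
  exact this

include hdeg in
theorem exists_preimage_C (a : A) : ∃ b ∈ ℬ 0, φ b = C a := by
  have : monomial 0 a ∈ Submodule.map φ.toLinearMap (ℬ 0) := by
    rw [hdeg]
    refine ⟨a, ?_, rfl⟩
    rw [SetLike.mem_coe, show (⨆ (m : ℕ) (_ : 0 ≤ m), 𝒜 m) = ⊤ from ?_]
    · trivial
    · simpa using (DirectSum.Decomposition.isInternal 𝒜).submodule_iSup_eq_top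
  exact this

include hdeg in
theorem exists_coeff {n : ℕ} {b : B} (hb : b ∈ ℬ n) :
    ∃ a ∈ (⨆ (m : ℕ) (_ : n ≤ m), 𝒜 m), φ b = monomial n a := by
  have : φ b ∈ Submodule.map φ.toLinearMap (ℬ n) := ⟨b, hb, rfl⟩
  rw [hdeg] at this
  obtain ⟨a, ha, h⟩ := this
  exact ⟨a, ha, h.symm⟩

include hdeg in
theorem range_eq (G : Gens 𝒜) :
    Set.range φ = (Algebra.adjoin A (natGens 𝒜 G : Set A[X]) : Set A[X]) := by
  classical
  apply Set.Subset.antisymm
  · rintro _ ⟨b, rfl⟩
    rw [SetLike.mem_coe, ← DirectSum.sum_support_decompose ℬ b, map_sum]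
    refine Subalgebra.sum_mem _ fun n _ => ?_
    obtain ⟨a, ha, he⟩ := exists_coeff 𝒜 ℬ φ hdeg (decompose ℬ b n).2
    rw [he]
    exact (iSup₂_le fun m h x hx => monomial_mem 𝒜 G m n h x hx :
      (⨆ (m : ℕ) (_ : n ≤ m), 𝒜 m) ≤
        ((Subalgebra.toSubmodule (Algebra.adjoin A (natGens 𝒜 G : Set A[X]))).restrictScalars R).comap
          ((Polynomial.monomial n : A →ₗ[A] Polynomial A).restrictScalars R)) ha
  · intro z hz
    change z ∈ Set.range φ
    induction hz using Algebra.adjoin_induction with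
    | mem z hz =>
      simp only [natGens, Finset.coe_biUnion, Set.mem_iUnion, Finset.mem_coe, Finset.mem_image,
        Finset.mem_range] at hz
      obtain ⟨f, hf, n, hn, rfl⟩ := hz
      obtain ⟨b, -, hb⟩ := exists_preimage 𝒜 ℬ φ hdeg (Nat.le_of_lt_succ hn) (G.mem f hf).1
      exact ⟨b, hb⟩
    | algebraMap a => obtain ⟨b, -, hb⟩ := exists_preimage_C 𝒜 ℬ φ hdeg a; exact ⟨b, hb⟩
    | add u v _ _ hu hv =>
      obtain ⟨x, rfl⟩ := hu; obtain ⟨y, rfl⟩ := hv; exact ⟨x + y, map_add φ x y⟩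
    | mul u v _ _ hu hv =>
      obtain ⟨x, rfl⟩ := hu; obtain ⟨y, rfl⟩ := hv; exact ⟨x * y, map_mul φ x y⟩

include hdeg in
theorem isNoetherianRing_iff' (hφ : Function.Injective φ) :
    IsNoetherianRing B ↔ IsNoetherianRing A := by
  classical
  constructor
  · intro _
    refine isNoetherianRing_of_surjective B A ((Polynomial.constantCoeff).comp φ.toRingHom) fun a => ?_
    obtain ⟨b, -, hb⟩ := exists_preimage_C 𝒜 ℬ φ hdeg a
    exact ⟨b, by simp [hb]⟩
  · intro _
    obtain ⟨G⟩ := gens_of_fg 𝒜 (IsNoetherian.noetherian _)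
    set T := Algebra.adjoin A (natGens 𝒜 G : Set A[X])
    haveI : Algebra.FiniteType A T :=
      ⟨(Subalgebra.fg_top T).mpr (Subalgebra.fg_adjoin_finset _)⟩
    haveI : IsNoetherianRing T := Algebra.FiniteType.isNoetherianRing A T
    have hr := range_eq 𝒜 ℬ φ hdeg G
    have hmem : ∀ b, φ b ∈ T := fun b => by
      have h : φ b ∈ (T : Set A[X]) := hr ▸ Set.mem_range_self b
      exact h
    let e : B →+* T := φ.toRingHom.codRestrict T hmem
    refine isNoetherianRing_of_ringEquiv T (RingEquiv.ofBijective e ⟨?_, ?_⟩).symm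
    · intro x y h
      exact hφ (congrArg Subtype.val h)
    · rintro ⟨z, hz⟩
      obtain ⟨b, hb⟩ := hr.symm.subset hz
      exact ⟨b, Subtype.ext hb⟩

include hdeg in
theorem finiteType_of_natural (h : Algebra.FiniteType (ℬ 0) B) : Algebra.FiniteType (𝒜 0) A := by
  classical
  obtain ⟨GB⟩ := gens_of_finiteType ℬ h
  refine finiteType_of_gens 𝒜 (gens_of_fg 𝒜 ?_).some
  refine ⟨GB.F.image fun g => (φ g.2).coeff 1, le_antisymm ?_ ?_⟩
  · rw [Submodule.span_le]
    intro z hz
    obtain ⟨g, hg, rfl⟩ := Finset.mem_image.mp hz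
    obtain ⟨a, ha, he⟩ := exists_coeff 𝒜 ℬ φ hdeg (GB.mem g hg).1
    show (φ g.2).coeff 1 ∈ _
    rw [he, coeff_monomial]
    split_ifs with h1
    · refine (iSup₂_le fun m hm x hx => ?_ : (⨆ (m : ℕ) (_ : g.1 ≤ m), 𝒜 m) ≤
        (HomogeneousIdeal.irrelevant 𝒜).toIdeal.restrictScalars R) ha
      exact HomogeneousIdeal.mem_irrelevant_of_mem 𝒜 (by omega) hx
    · exact Submodule.zero_mem _
  · intro x hx
    rw [← DirectSum.sum_support_decompose 𝒜 x]
    refine Submodule.sum_mem _ fun m _ => ?_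
    rcases Nat.eq_zero_or_pos m with rfl | hm
    · have : (decompose 𝒜 x 0 : A) = 0 := by
        have := (HomogeneousIdeal.mem_irrelevant_iff 𝒜 x).mp hx
        rwa [GradedRing.proj_apply] at this
      rw [this]; exact Submodule.zero_mem _
    obtain ⟨b, hb, hbe⟩ := exists_preimage 𝒜 ℬ φ hdeg (n := 1) hm (decompose 𝒜 x m).2
    have key : ∀ b ∈ Ideal.span (Prod.snd '' (GB.F : Set (ℕ × B))), (φ b).coeff 0 = 0 ∧
        (φ b).coeff 1 ∈ Submodule.span A (↑(GB.F.image fun g => (φ g.2).coeff 1) : Set A) := by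
      intro b hb
      induction hb using Submodule.span_induction with
      | zero => simp
      | add u v _ _ hu hv =>
        rw [map_add, coeff_add, coeff_add]
        exact ⟨by rw [hu.1, hv.1, add_zero], Submodule.add_mem _ hu.2 hv.2⟩
      | smul c u _ hu =>
        rw [smul_eq_mul, map_mul]
        refine ⟨by rw [mul_coeff_zero, hu.1, mul_zero], ?_⟩
        rw [coeff_mul, Finset.Nat.antidiagonal_succ, Finset.sum_cons]
        simp only [Finset.Nat.antidiagonal_zero, Finset.map_singleton, Finset.sum_singleton,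
          Function.Embedding.prodMap, Function.Embedding.coeFn_mk, Prod.map_apply,
          Function.Embedding.refl_apply, hu.1, mul_zero, add_zero]
        rw [← smul_eq_mul]
        exact Submodule.smul_mem _ _ hu.2
      | mem u hu =>
        obtain ⟨g, hg, rfl⟩ := hu
        refine ⟨?_, Submodule.subset_span (Finset.mem_coe.mpr (Finset.mem_image_of_mem _ hg))⟩
        obtain ⟨a, -, he⟩ := exists_coeff 𝒜 ℬ φ hdeg (GB.mem g hg).1
        rw [he, coeff_monomial, if_neg (Nat.ne_of_gt (GB.mem g hg).2)]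
    have := (key b (GB.span 1 b Nat.one_pos hb)).2
    rwa [hbe, coeff_monomial, if_pos rfl] at this

include hdeg in
theorem natural_of_finiteType (hφ : Function.Injective φ) (h : Algebra.FiniteType (𝒜 0) A) :
    Algebra.FiniteType (ℬ 0) B := by
  classical
  obtain ⟨G⟩ := gens_of_finiteType 𝒜 h
  have hex : ∀ z ∈ natGens 𝒜 G, ∃ b, φ b = z := fun z hz => by
    have : z ∈ Set.range φ := by
      rw [range_eq 𝒜 ℬ φ hdeg G]; exact Algebra.subset_adjoin hz
    exact this
  choose! q hq using hex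
  refine ⟨⟨(natGens 𝒜 G).image q, top_unique fun b _ => ?_⟩⟩
  set U := Algebra.adjoin (ℬ 0) (↑((natGens 𝒜 G).image q) : Set B)
  have key : ∀ z ∈ Algebra.adjoin A (natGens 𝒜 G : Set A[X]), ∃ u ∈ U, φ u = z := by
    intro z hz
    induction hz using Algebra.adjoin_induction with
    | mem z hz => exact ⟨q z, Algebra.subset_adjoin (Finset.mem_coe.mpr (Finset.mem_image_of_mem q hz)), hq z hz⟩
    | algebraMap a =>
      obtain ⟨u, hu, he⟩ := exists_preimage_C 𝒜 ℬ φ hdeg a
      exact ⟨u, U.algebraMap_mem (⟨u, hu⟩ : ℬ 0), he⟩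
    | add u v _ _ hu hv =>
      obtain ⟨x, hx, rfl⟩ := hu; obtain ⟨y, hy, rfl⟩ := hv; exact ⟨x + y, U.add_mem hx hy, map_add φ x y⟩
    | mul u v _ _ hu hv =>
      obtain ⟨x, hx, rfl⟩ := hu; obtain ⟨y, hy, rfl⟩ := hv; exact ⟨x * y, U.mul_mem hx hy, map_mul φ x y⟩
  obtain ⟨u, hu, he⟩ := key (φ b) (by
    have hb : φ b ∈ (Algebra.adjoin A (natGens 𝒜 G : Set A[X]) : Set A[X]) :=
      range_eq 𝒜 ℬ φ hdeg G ▸ Set.mem_range_self b
    exact hb)
  exact hφ he ▸ hu

end Groth.Agent.H83.NaturalGraded
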