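import Mathlib

/-! Forms of degree `n - 1` in three variables through `n` points of the plane. -/

set_option autoImplicit false
universe u

open MvPolynomial

namespace Groth.Agent.H83.PlanePoints

variable {k : Type u} [Field k]

/-- The polynomial attached to a linear form on `k^3`. -/
noncomputable def linPoly (ℓ : (Fin 3 → k) →ₗ[k] k) : MvPolynomial (Fin 3) k :=
  ∑ i, C (ℓ (Pi.single i 1)) * X i

theorem linPoly_isHomogeneous (ℓ : (Fin 3 → k) →ₗ[k] k) : (linPoly ℓ).IsHomogeneous 1 := by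
  apply IsHomogeneous.sum
  intro i _
  exact IsHomogeneous.C_mul (isHomogeneous_X k i) _

theorem aeval_linPoly (ℓ : (Fin 3 → k) →ₗ[k] k) (x : Fin 3 → k) :
    aeval x (linPoly ℓ) = ℓ x := by
  conv_rhs => rw [pi_eq_sum_univ' x]
  simp only [linPoly, map_sum, map_mul, aeval_C, aeval_X, map_smul, smul_eq_mul,
    Algebra.algebraMap_self, RingHom.id_apply]
  exact Finset.sum_congr rfl fun i _ => mul_comm _ _

/-- A vector outside a subspace is separated from it by a linear form. -/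
theorem exists_sep (p : Submodule k (Fin 3 → k)) {x : Fin 3 → k} (hx : x ∉ p) :
    ∃ ℓ : (Fin 3 → k) →ₗ[k] k, (∀ y ∈ p, ℓ y = 0) ∧ ℓ x ≠ 0 := by
  obtain ⟨ℓ, h1, h2⟩ := Submodule.exists_le_ker_of_notMem hx
  exact ⟨ℓ, fun y hy => h2 hy, h1⟩

theorem exists_sep_point {x w : Fin 3 → k} (hx : ∀ c : k, x ≠ c • w) :
    ∃ ℓ : (Fin 3 → k) →ₗ[k] k, ℓ w = 0 ∧ ℓ x ≠ 0 := by
  obtain ⟨ℓ, h1, h2⟩ := exists_sep (Submodule.span k {w}) (x := x) (fun h => by
    obtain ⟨c, hc⟩ := Submodule.mem_span_singleton.mp h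
    exact hx c hc.symm)
  exact ⟨ℓ, h1 w (Submodule.mem_span_singleton_self w), h2⟩

theorem not_smul_of_linearIndependent {v w : Fin 3 → k} (h : LinearIndependent k ![v, w]) :
    ∀ c : k, v ≠ c • w := by
  intro c hc
  have h1 := (LinearIndependent.pair_iff.mp h) 1 (-c) (by rw [hc, one_smul, neg_smul, add_neg_cancel])
  exact one_ne_zero h1.1

/-- Product of linear forms, each killing one given point. -/
theorem exists_prod (S : Finset (Fin 3 → k)) (x : Fin 3 → k) (hS : ∀ w ∈ S, ∀ c : k, x ≠ c • w) :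
    ∃ F : MvPolynomial (Fin 3) k, F.IsHomogeneous S.card ∧ (∀ w ∈ S, aeval w F = (0:k)) ∧
      aeval x F ≠ (0:k) := by
  classical
  choose! ℓ hℓ using fun w (hw : w ∈ S) => exists_sep_point (hS w hw)
  refine ⟨∏ w ∈ S, linPoly (ℓ w), ?_, ?_, ?_⟩
  · have := IsHomogeneous.prod S (fun w => linPoly (ℓ w)) (fun _ => 1) (fun w _ => linPoly_isHomogeneous _)
    simpa using this
  · intro w hw
    rw [map_prod]
    exact Finset.prod_eq_zero hw (by rw [aeval_linPoly]; exact (hℓ w hw).1)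
  · rw [map_prod]
    exact Finset.prod_ne_zero_iff.mpr fun w hw => by rw [aeval_linPoly]; exact (hℓ w hw).2

theorem finrank_homogeneous (m : ℕ) :
    Module.finrank k (homogeneousSubmodule (Fin 3) k m) = Nat.choose (m + 2) 2 := by
  classical
  have h1 : homogeneousSubmodule (Fin 3) k m = restrictSupport k {d : Fin 3 →₀ ℕ | d.degree = m} :=
    homogeneousSubmodule_eq_finsupp_supported _ _ _
  rw [h1]
  have hset : {d : Fin 3 →₀ ℕ | d.degree = m} =
      (((Finset.univ : Finset (Fin 3)).finsuppAntidiag m : Finset (Fin 3 →₀ ℕ)) : Set (Fin 3 →₀ ℕ)) := by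
    ext d
    simp [Finsupp.degree_eq_sum]
  rw [hset, Module.finrank_eq_card_basis (basisRestrictSupport k _)]
  rw [← Set.toFinset_card, Finset.toFinset_coe, Finset.card_finsuppAntidiag_nat_eq_choose]
  simp only [Finset.card_univ, Fintype.card_fin]
  rw [show 3 + m - 1 = m + 2 by omega, ← Nat.choose_symm (by omega), show m + 2 - m = 2 by omega]

theorem mem_iInf_ker (Λ : Finset (Fin 3 → k)) (F : MvPolynomial (Fin 3) k) :
    F ∈ (⨅ v ∈ Λ, LinearMap.ker (aeval v : MvPolynomial (Fin 3) k →ₐ[k] k).toLinearMap) ↔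
      ∀ v ∈ Λ, aeval v F = (0:k) := by
  simp only [Submodule.mem_iInf, LinearMap.mem_ker, AlgHom.toLinearMap_apply]

theorem finrank_vanishing (n : ℕ) (hn : 1 ≤ n) (Λ : Finset (Fin 3 → k)) (hcard : Λ.card = n)
    (hdist : ∀ v ∈ Λ, ∀ w ∈ Λ, v ≠ w → LinearIndependent k ![v, w]) :
    Module.finrank k ↥(homogeneousSubmodule (Fin 3) k (n - 1) ⊓
      ⨅ v ∈ Λ, LinearMap.ker (aeval v : MvPolynomial (Fin 3) k →ₐ[k] k).toLinearMap) =
      Nat.choose (n + 1) 2 - n := by
  classical
  let H := homogeneousSubmodule (Fin 3) k (n - 1)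
  haveI : Module.Finite k H := Module.Finite.iff_fg.mpr (homogeneousSubmodule_fg _ _ _)
  let E : H →ₗ[k] (↥Λ → k) :=
    (LinearMap.pi fun v : ↥Λ => (aeval v.1 : MvPolynomial (Fin 3) k →ₐ[k] k).toLinearMap) ∘ₗ H.subtype
  have hsurj : Function.Surjective E := by
    rw [← LinearMap.range_eq_top, eq_top_iff, ← (Pi.basisFun k ↥Λ).span_eq, Submodule.span_le]
    rintro _ ⟨v, rfl⟩
    obtain ⟨F, hF1, hF2, hF3⟩ := exists_prod (Λ.erase v.1) v.1 (fun w hw =>
      not_smul_of_linearIndependent (hdist v.1 v.2 w (Finset.mem_of_mem_erase hw)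
        (fun h => (Finset.ne_of_mem_erase hw) h.symm)))
    rw [Finset.card_erase_of_mem v.2, hcard] at hF1
    refine ⟨(aeval v.1 F : k)⁻¹ • ⟨F, hF1⟩, ?_⟩
    rw [Pi.basisFun_apply]
    funext w
    simp only [map_smul, Pi.smul_apply, smul_eq_mul]
    show (aeval v.1 F : k)⁻¹ * aeval w.1 F = _
    by_cases hw : w = v
    · subst hw; rw [Pi.single_eq_same]; exact inv_mul_cancel₀ hF3
    · rw [Pi.single_eq_of_ne hw,
        hF2 w.1 (Finset.mem_erase.mpr ⟨fun h => hw (Subtype.ext h), w.2⟩), mul_zero]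
  have hker : LinearMap.ker E = Submodule.comap H.subtype
      (⨅ v ∈ Λ, LinearMap.ker (aeval v : MvPolynomial (Fin 3) k →ₐ[k] k).toLinearMap) := by
    ext F
    rw [LinearMap.mem_ker, Submodule.mem_comap, mem_iInf_ker]
    constructor
    · intro h v hv
      exact congrFun h ⟨v, hv⟩
    · intro h
      funext v
      exact h v.1 v.2
  have hrk := LinearMap.finrank_range_add_finrank_ker E
  rw [LinearMap.range_eq_top.mpr hsurj, finrank_top, Module.finrank_fintype_fun_eq_card,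
    Fintype.card_coe, hcard, finrank_homogeneous, hker] at hrk
  rw [show n - 1 + 2 = n + 1 by omega] at hrk
  rw [← Submodule.map_comap_subtype, Submodule.finrank_map_subtype_eq]
  change Module.finrank k ↥(Submodule.comap H.subtype _) = _
  omega

/-- A non-collinear point set is cut out by forms of degree `n - 1`. -/
theorem exists_form_avoiding (n : ℕ) (Λ : Finset (Fin 3 → k)) (hcard : Λ.card = n)
    (hline : ¬ ∃ ℓ : (Fin 3 → k) →ₗ[k] k, ℓ ≠ 0 ∧ ∀ v ∈ Λ, ℓ v = 0)
    (q : Fin 3 → k) (hq : ∀ v ∈ Λ, ∀ c : k, q ≠ c • v) :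
    ∃ F : MvPolynomial (Fin 3) k, F.IsHomogeneous (n - 1) ∧ (∀ v ∈ Λ, aeval v F = (0:k)) ∧
      aeval q F ≠ (0:k) := by
  classical
  obtain ⟨a, ha⟩ : Λ.Nonempty := by
    by_contra h
    rw [Finset.not_nonempty_iff_eq_empty] at h
    exact hline ⟨LinearMap.proj 0, fun h0 => by
      have := congrArg (fun f : (Fin 3 → k) →ₗ[k] k => f (Pi.single 0 1)) h0
      simp at this, by simp [h]⟩
  have hpair : ∃ b ∈ Λ, b ≠ a ∧ q ∉ Submodule.span k ({a, b} : Set (Fin 3 → k)) := by
    by_contra hcon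
    push_neg at hcon
    let P : Submodule k (Fin 3 → k) := Submodule.span k ({a, q} : Set (Fin 3 → k))
    have hsub : ∀ v ∈ Λ, v ∈ P := by
      intro v hv
      by_cases hva : v = a
      · subst hva; exact Submodule.subset_span (by simp)
      obtain ⟨c, d, hcd⟩ := Submodule.mem_span_pair.mp (hcon v hv hva)
      by_cases hd : d = 0
      · subst hd
        exact absurd (by simpa using hcd.symm) (hq a ha c)
      · have hve : v = d⁻¹ • (q - c • a) := by
          rw [← hcd, add_sub_cancel_left, smul_smul, inv_mul_cancel₀ hd, one_smul]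
        rw [hve]
        exact P.smul_mem _ (P.sub_mem (Submodule.subset_span (by simp))
          (P.smul_mem _ (Submodule.subset_span (by simp))))
    have hlt : P ≠ ⊤ := by
      intro h
      have h1 : Module.finrank k P ≤ 2 := by
        refine le_trans (finrank_span_le_card _) ?_
        rw [Set.toFinset_insert, Set.toFinset_singleton]
        exact Finset.card_le_two
      rw [h, finrank_top, Module.finrank_fintype_fun_eq_card, Fintype.card_fin] at h1
      omega
    obtain ⟨z, -, hz⟩ := SetLike.exists_of_lt (lt_top_iff_ne_top.mpr hlt)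
    obtain ⟨ℓ, hℓ1, hℓ2⟩ := exists_sep P hz
    exact hline ⟨ℓ, fun h => hℓ2 (by simp [h]), fun v hv => hℓ1 v (hsub v hv)⟩
  obtain ⟨b, hb, hba, hqab⟩ := hpair
  obtain ⟨ℓ, hℓ1, hℓ2⟩ := exists_sep _ hqab
  obtain ⟨G, hG1, hG2, hG3⟩ := exists_prod ((Λ.erase a).erase b) q (fun w hw =>
    hq w (Finset.mem_of_mem_erase (Finset.mem_of_mem_erase hw)))
  have hbe : b ∈ Λ.erase a := Finset.mem_erase.mpr ⟨hba, hb⟩
  have hc2 : ((Λ.erase a).erase b).card = n - 2 := by
    rw [Finset.card_erase_of_mem hbe, Finset.card_erase_of_mem ha, hcard]; omega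
  rw [hc2] at hG1
  refine ⟨linPoly ℓ * G, ?_, ?_, ?_⟩
  · have h2 : 2 ≤ n := hcard ▸ Finset.one_lt_card.mpr ⟨a, ha, b, hb, fun h => hba h.symm⟩
    convert (linPoly_isHomogeneous ℓ).mul hG1 using 1
    omega
  · intro v hv
    rw [map_mul, aeval_linPoly]
    by_cases hva : v = a
    · subst hva; rw [hℓ1 v (Submodule.subset_span (by simp)), zero_mul]
    by_cases hvb : v = b
    · subst hvb; rw [hℓ1 v (Submodule.subset_span (by simp)), zero_mul]
    rw [hG2 v (Finset.mem_erase.mpr ⟨hvb, Finset.mem_erase.mpr ⟨hva, hv⟩⟩), mul_zero]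
  · rw [map_mul, aeval_linPoly]
    exact mul_ne_zero hℓ2 hG3

end Groth.Agent.H83.PlanePoints
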