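import Groth.Prelude.Def_GrSeg
import Groth.Agent.H83.Elem.SegreNoeth
import Mathlib

/-! Segre products of finite graded modules are finite. -/

set_option autoImplicit false
universe u

open DirectSum TensorProduct

namespace Groth.Agent.H83.SegreModFinite

variable {k : Type u} [Field k] {R S : Type u} [CommRing R] [Algebra k R] [CommRing S] [Algebra k S]
  (𝒜 : ℤ → Submodule k R) [GradedAlgebra 𝒜] (ℬ : ℤ → Submodule k S) [GradedAlgebra ℬ]
  {M N : Type u} [AddCommGroup M] [Module R M] [Module k M] [IsScalarTower k R M]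
  [AddCommGroup N] [Module S N] [Module k N] [IsScalarTower k S N]
  (ℳ : ℤ → AddSubgroup M) [DirectSum.Decomposition ℳ] [SetLike.GradedSMul 𝒜 ℳ]
  (𝒩 : ℤ → AddSubgroup N) [DirectSum.Decomposition 𝒩] [SetLike.GradedSMul ℬ 𝒩]

include 𝒜 in
omit [DirectSum.Decomposition ℳ] in
theorem smul_mem_piece {i : ℤ} {x : M} (hx : x ∈ ℳ i) (c : k) : c • x ∈ ℳ i := by
  have h1 : algebraMap k R c ∈ 𝒜 0 := SetLike.algebraMap_mem_graded 𝒜 c
  have := SetLike.GradedSMul.smul_mem (A := 𝒜) (B := ℳ) h1 hx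
  rw [zero_vadd, algebraMap_smul] at this
  exact this

/-- The additive diagonal pairing. -/
noncomputable def pairing : M →+ N →+ M ⊗[k] N :=
  (DirectSum.toAddMonoid fun i =>
    AddMonoidHom.mk' (fun a : ℳ i =>
      (TensorProduct.mk k M N (a : M)).toAddMonoidHom.comp
        ((𝒩 i).subtype.comp
          ((DFinsupp.evalAddMonoidHom i).comp (decomposeAddEquiv 𝒩).toAddMonoidHom)))
      (fun a b => by ext n; simp)).comp (decomposeAddEquiv ℳ).toAddMonoidHom

theorem pairing_apply {i j : ℤ} {a : M} {b : N} (ha : a ∈ ℳ i) (hb : b ∈ 𝒩 j) :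
    pairing (k := k) ℳ 𝒩 a b = if i = j then a ⊗ₜ[k] b else 0 := by
  have hda : decomposeAddEquiv ℳ a = DirectSum.of (fun j => ℳ j) i ⟨a, ha⟩ := by
    rw [decomposeAddEquiv_apply, decompose_of_mem ℳ ha]
  simp only [pairing, AddMonoidHom.coe_comp, Function.comp_apply, AddEquiv.coe_toAddMonoidHom, hda,
    DirectSum.toAddMonoid_of, AddMonoidHom.mk'_apply, LinearMap.toAddMonoidHom_coe,
    TensorProduct.mk_apply, AddSubgroup.subtype_apply, decomposeAddEquiv_apply]
  split_ifs with h
  · subst h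
    exact congrArg (fun z => a ⊗ₜ[k] z) (decompose_of_mem_same 𝒩 hb)
  · exact (congrArg (fun z => a ⊗ₜ[k] z) (decompose_of_mem_ne 𝒩 hb (Ne.symm h))).trans
      (TensorProduct.tmul_zero _ a)

include 𝒜 in
theorem pairing_smul_left (c : k) (m : M) (n : N) :
    pairing (k := k) ℳ 𝒩 (c • m) n = c • pairing (k := k) ℳ 𝒩 m n := by
  induction m using DirectSum.Decomposition.inductionOn ℳ with
  | zero => simp
  | add x y hx hy => simp [hx, hy, smul_add]
  | @homogeneous i a =>
    induction n using DirectSum.Decomposition.inductionOn 𝒩 with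
    | zero => simp
    | add x y hx hy => rw [map_add, map_add, hx, hy, smul_add]
    | @homogeneous j b =>
      rw [pairing_apply ℳ 𝒩 (smul_mem_piece 𝒜 ℳ a.2 c) b.2, pairing_apply ℳ 𝒩 a.2 b.2, smul_ite,
        smul_zero, TensorProduct.smul_tmul']

include ℬ in
theorem pairing_smul_right (c : k) (m : M) (n : N) :
    pairing (k := k) ℳ 𝒩 m (c • n) = c • pairing (k := k) ℳ 𝒩 m n := by
  induction m using DirectSum.Decomposition.inductionOn ℳ with
  | zero => simp
  | add x y hx hy => simp [hx, hy, smul_add]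
  | @homogeneous i a =>
    induction n using DirectSum.Decomposition.inductionOn 𝒩 with
    | zero => simp
    | add x y hx hy => rw [smul_add, map_add, map_add, hx, hy, smul_add]
    | @homogeneous j b =>
      rw [pairing_apply ℳ 𝒩 a.2 (smul_mem_piece ℬ 𝒩 b.2 c), pairing_apply ℳ 𝒩 a.2 b.2, smul_ite,
        smul_zero, TensorProduct.tmul_smul]

/-- The diagonal projection of `M ⊗ N`. -/
noncomputable def diagProjMod : M ⊗[k] N →ₗ[k] M ⊗[k] N :=
  TensorProduct.lift (LinearMap.mk₂ k (fun m n => pairing (k := k) ℳ 𝒩 m n)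
    (fun m m' n => by simp) (fun c m n => pairing_smul_left 𝒜 ℳ 𝒩 c m n)
    (fun m n n' => map_add _ _ _) (fun c m n => pairing_smul_right ℬ ℳ 𝒩 c m n))

theorem diagProjMod_tmul {i j : ℤ} {a : M} {b : N} (ha : a ∈ ℳ i) (hb : b ∈ 𝒩 j) :
    diagProjMod 𝒜 ℬ ℳ 𝒩 (a ⊗ₜ[k] b) = if i = j then a ⊗ₜ[k] b else 0 :=
  pairing_apply ℳ 𝒩 ha hb

theorem act_mul (x y : R ⊗[k] S) (z : M ⊗[k] N) :
    GrSeg.act k R S M N (x * y) z = GrSeg.act k R S M N x (GrSeg.act k R S M N y z) := by
  induction x using TensorProduct.induction_on with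
  | zero => simp
  | add a b ha hb => simp [add_mul, ha, hb]
  | tmul r s =>
    induction y using TensorProduct.induction_on with
    | zero => simp
    | add a b ha hb => simp [mul_add, ha, hb]
    | tmul r' s' =>
      induction z using TensorProduct.induction_on with
      | zero => simp
      | add a b ha hb => simp only [map_add, ha, hb]
      | tmul m n => simp [GrSeg.act_tmul, mul_smul]

theorem act_one (z : M ⊗[k] N) : GrSeg.act k R S M N 1 z = z := by
  induction z using TensorProduct.induction_on with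
  | zero => simp
  | add a b ha hb => simp [ha, hb]
  | tmul m n => rw [Algebra.TensorProduct.one_def, GrSeg.act_tmul, one_smul, one_smul]

/-- The diagonal part of `M ⊗ N`. -/
def diagMod : Submodule k (M ⊗[k] N) := ⨆ n : ℤ, GrSeg.segrePiece k ℳ 𝒩 n

theorem proj_act (y : R ⊗[k] S) {g : M ⊗[k] N} (hg : g ∈ diagMod (k := k) ℳ 𝒩) :
    diagProjMod 𝒜 ℬ ℳ 𝒩 (GrSeg.act k R S M N y g) =
      GrSeg.act k R S M N (SegreNoeth.diagProj 𝒜 ℬ y) g := by
  induction hg using Submodule.iSup_induction' with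
  | zero => simp
  | add u v _ _ hu hv => simp [hu, hv]
  | mem n x hx =>
    induction hx using Submodule.span_induction with
    | zero => simp
    | add u v _ _ hu hv => simp [hu, hv]
    | smul c u _ hu => simp [hu]
    | mem x hx =>
      obtain ⟨a, ha, b, hb, rfl⟩ := hx
      refine SegreNoeth.hom_induction 𝒜 ℬ (P := fun y =>
        diagProjMod 𝒜 ℬ ℳ 𝒩 (GrSeg.act k R S M N y (a ⊗ₜ[k] b)) =
          GrSeg.act k R S M N (SegreNoeth.diagProj 𝒜 ℬ y) (a ⊗ₜ[k] b))
        (by simp) (fun u v hu hv => by simp [hu, hv]) (fun i j r s hr hs => ?_) y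
      rw [GrSeg.act_tmul, SegreNoeth.diagProj_tmul 𝒜 ℬ hr hs,
        diagProjMod_tmul 𝒜 ℬ ℳ 𝒩 (SetLike.GradedSMul.smul_mem (A := 𝒜) (B := ℳ) hr ha)
          (SetLike.GradedSMul.smul_mem (A := ℬ) (B := 𝒩) hs hb)]
      simp only [vadd_eq_add]
      by_cases h : i = j
      · rw [if_pos h, if_pos (by rw [h]), GrSeg.act_tmul]
      · rw [if_neg h, if_neg (by omega)]; simp

theorem proj_self {g : M ⊗[k] N} (hg : g ∈ diagMod (k := k) ℳ 𝒩) :
    diagProjMod 𝒜 ℬ ℳ 𝒩 g = g := by
  have h := proj_act 𝒜 ℬ ℳ 𝒩 1 hg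
  have h1 : SegreNoeth.diagProj 𝒜 ℬ (1 : R ⊗[k] S) = 1 := by
    rw [Algebra.TensorProduct.one_def,
      SegreNoeth.diagProj_tmul 𝒜 ℬ SetLike.GradedOne.one_mem SetLike.GradedOne.one_mem, if_pos rfl]
  rwa [h1, act_one] at h

variable [Algebra.FiniteType k R] [Algebra.FiniteType k S] [Module.Finite R M] [Module.Finite S N]

include 𝒜 ℬ in
theorem exists_generators :
    ∃ G : Finset (M ⊗[k] N), (∀ g ∈ G, g ∈ diagMod (k := k) ℳ 𝒩) ∧
      ∀ x ∈ diagMod (k := k) ℳ 𝒩, ∀ W : Submodule k (M ⊗[k] N),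
        (∀ g ∈ G, ∀ w ∈ SegreNoeth.diag 𝒜 ℬ, GrSeg.act k R S M N w g ∈ W) → x ∈ W := by
  classical
  letI : Module (R ⊗[k] S) (M ⊗[k] N) :=
    { smul := fun y z => GrSeg.act k R S M N y z
      one_smul := act_one
      mul_smul := act_mul
      smul_zero := fun y => map_zero _
      smul_add := fun y => map_add _
      add_smul := fun x y z => by show GrSeg.act k R S M N (x + y) z = _; simp; rfl
      zero_smul := fun z => by show GrSeg.act k R S M N 0 z = _; simp }
  have hsmul : ∀ (y : R ⊗[k] S) (z : M ⊗[k] N), y • z = GrSeg.act k R S M N y z := fun _ _ => rfl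
  haveI : IsNoetherianRing R := Algebra.FiniteType.isNoetherianRing k R
  haveI : IsNoetherianRing (R ⊗[k] S) := Algebra.FiniteType.isNoetherianRing R (R ⊗[k] S)
  haveI : Module.Finite (R ⊗[k] S) (M ⊗[k] N) := by
    obtain ⟨s, hs⟩ := (inferInstance : Module.Finite R M)
    obtain ⟨t, ht⟩ := (inferInstance : Module.Finite S N)
    refine ⟨⟨Finset.image₂ (fun m n => m ⊗ₜ[k] n) s t, ?_⟩⟩
    rw [Submodule.eq_top_iff']
    intro z
    induction z using TensorProduct.induction_on with
    | zero => exact zero_mem _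
    | add a b ha hb => exact add_mem ha hb
    | tmul m n =>
      have hm : m ∈ Submodule.span R (s : Set M) := hs ▸ Submodule.mem_top
      induction hm using Submodule.span_induction generalizing n with
      | zero => rw [TensorProduct.zero_tmul]; exact zero_mem _
      | add u v _ _ hu hv => rw [TensorProduct.add_tmul]; exact add_mem (hu n) (hv n)
      | smul r u _ hu =>
        have : (r • u) ⊗ₜ[k] n = (r ⊗ₜ[k] (1 : S)) • (u ⊗ₜ[k] n) := by
          rw [hsmul, GrSeg.act_tmul, one_smul]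
        rw [this]; exact Submodule.smul_mem _ _ (hu n)
      | mem u hu =>
        have hn : n ∈ Submodule.span S (t : Set N) := ht ▸ Submodule.mem_top
        induction hn using Submodule.span_induction with
        | zero => rw [TensorProduct.tmul_zero]; exact zero_mem _
        | add v w _ _ hv hw => rw [TensorProduct.tmul_add]; exact add_mem hv hw
        | smul r v _ hv =>
          have : u ⊗ₜ[k] (r • v) = ((1 : R) ⊗ₜ[k] r) • (u ⊗ₜ[k] v) := by
            rw [hsmul, GrSeg.act_tmul, one_smul]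
          rw [this]; exact Submodule.smul_mem _ _ hv
        | mem v hv => exact Submodule.subset_span (Finset.mem_image₂.mpr ⟨u, hu, v, hv, rfl⟩)
  obtain ⟨G, hGsub, hG⟩ := Submodule.fg_span_iff_fg_span_finset_subset _ |>.mp
    (IsNoetherian.noetherian (Submodule.span (R ⊗[k] S) ((diagMod (k := k) ℳ 𝒩 : Submodule k (M ⊗[k] N)) : Set (M ⊗[k] N))))
  refine ⟨G, fun g hg => hGsub hg, fun x hx W hW => ?_⟩
  have hx' : x ∈ Submodule.span (R ⊗[k] S) (G : Set (M ⊗[k] N)) := hG ▸ Submodule.subset_span hx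
  suffices ∀ y : R ⊗[k] S, diagProjMod 𝒜 ℬ ℳ 𝒩 (y • x) ∈ W by
    have h := this 1
    rwa [one_smul, proj_self 𝒜 ℬ ℳ 𝒩 hx] at h
  clear hx
  induction hx' using Submodule.span_induction with
  | zero => intro y; rw [smul_zero, map_zero]; exact zero_mem _
  | add u v _ _ hu hv => intro y; rw [smul_add, map_add]; exact add_mem (hu y) (hv y)
  | smul r u _ hu => intro y; rw [← mul_smul]; exact hu _
  | mem g hg =>
    intro y
    rw [hsmul, proj_act 𝒜 ℬ ℳ 𝒩 y (hGsub hg)]
    exact hW g hg _ (SegreNoeth.diagProj_mem 𝒜 ℬ y)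

end Groth.Agent.H83.SegreModFinite
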