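import Groth.Prelude.Def_W4c6katofiltaWFil
import Mathlib

/-! Stability of the Witt filtration under subtraction and multiplication. -/

set_option autoImplicit false
universe u v

namespace Groth.Agent.H83.WittFilLib

variable {p : ℕ} [hp : Fact p.Prime]

theorem coeff_mul_teichmuller_rat {R : Type u} [CommRing R] [Invertible (p : R)]
    (x : WittVector p R) (t : R) :
    x * WittVector.teichmuller p t = WittVector.mk p (fun i => x.coeff i * t ^ p ^ i) := by
  apply (WittVector.ghostMap.bijective_of_invertible p R).1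
  funext n
  rw [map_mul, Pi.mul_apply, WittVector.ghostMap_apply, WittVector.ghostMap_apply,
    WittVector.ghostMap_apply, WittVector.ghostComponent_teichmuller,
    WittVector.ghostComponent_apply, WittVector.ghostComponent_apply]
  simp only [wittPolynomial, map_sum, MvPolynomial.aeval_monomial, Finsupp.prod_single_index,
    pow_zero]
  rw [Finset.sum_mul]
  refine Finset.sum_congr rfl fun i hi => ?_
  rw [WittVector.coeff_mk, mul_pow, ← pow_mul, ← pow_add,
    Nat.add_sub_cancel' (Nat.lt_succ_iff.mp (Finset.mem_range.mp hi)), mul_assoc]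

theorem coeff_mul_teichmuller {R : Type u} [CommRing R] (x : WittVector p R) (t : R) (n : ℕ) :
    (x * WittVector.teichmuller p t).coeff n = x.coeff n * t ^ p ^ n := by
  let f : MvPolynomial (Option ℕ) ℤ →+* MvPolynomial (Option ℕ) ℚ :=
    MvPolynomial.map (Int.castRingHom ℚ)
  have hf : Function.Injective f := MvPolynomial.map_injective _ Int.cast_injective
  haveI : Invertible (p : MvPolynomial (Option ℕ) ℚ) := by
    have h : IsUnit (p : MvPolynomial (Option ℕ) ℚ) := by
      rw [← map_natCast (MvPolynomial.C (R := ℚ) (σ := Option ℕ))]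
      exact ((Nat.cast_ne_zero.mpr hp.out.ne_zero).isUnit).map _
    exact h.invertible
  let x0 : WittVector p (MvPolynomial (Option ℕ) ℤ) := WittVector.mk p fun i => MvPolynomial.X (some i)
  have hu : x0 * WittVector.teichmuller p (MvPolynomial.X none) =
      WittVector.mk p (fun i => x0.coeff i * (MvPolynomial.X none) ^ p ^ i) := by
    apply WittVector.map_injective f hf
    rw [map_mul, WittVector.map_teichmuller, coeff_mul_teichmuller_rat]
    ext i
    simp
  let e : MvPolynomial (Option ℕ) ℤ →+* R :=
    (MvPolynomial.aeval (fun o => Option.elim o t x.coeff)).toRingHom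
  have hx : WittVector.map e x0 = x := by
    ext i
    simp [e, x0]
  have := congrArg (fun w => (WittVector.map e w).coeff n) hu
  simp only [map_mul, WittVector.map_teichmuller, hx, WittVector.map_coeff, map_pow] at this
  simpa [e, x0] using this

theorem exists_subring_lift {C : Type u} [CommRing C] (S : Subring C) (m : ℕ) (γ : WittVector p C)
    (h : ∀ j, j < m → γ.coeff j ∈ S) :
    ∃ δ : WittVector p S, WittVector.truncate m (WittVector.map S.subtype δ) = WittVector.truncate m γ := by
  refine ⟨WittVector.mk p fun j => if hj : j < m then ⟨γ.coeff j, h j hj⟩ else 0, ?_⟩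
  apply TruncatedWittVector.ext
  intro i
  rw [WittVector.coeff_truncate, WittVector.coeff_truncate, WittVector.map_coeff, WittVector.coeff_mk,
    dif_pos i.2]
  rfl

theorem coeff_mem_sub {C : Type u} [CommRing C] (S : Subring C) (m : ℕ) (γ γ' : WittVector p C)
    (h : ∀ j, j < m → γ.coeff j ∈ S) (h' : ∀ j, j < m → γ'.coeff j ∈ S) (j : ℕ) (hj : j < m) :
    (γ - γ').coeff j ∈ S := by
  obtain ⟨δ, hδ⟩ := exists_subring_lift S m γ h
  obtain ⟨δ', hδ'⟩ := exists_subring_lift S m γ' h'
  have h1 : WittVector.truncate m (γ - γ') = WittVector.truncate m (WittVector.map S.subtype (δ - δ')) := by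
    rw [map_sub, map_sub (WittVector.map S.subtype), map_sub (WittVector.truncate m), hδ, hδ']
  have h2 := congrArg (TruncatedWittVector.coeff ⟨j, hj⟩) h1
  rw [WittVector.coeff_truncate, WittVector.coeff_truncate, WittVector.map_coeff] at h2
  rw [h2]
  exact ((δ - δ').coeff j).2

theorem coeff_mem_mul {C : Type u} [CommRing C] (S : Subring C) (m : ℕ) (γ γ' : WittVector p C)
    (h : ∀ j, j < m → γ.coeff j ∈ S) (h' : ∀ j, j < m → γ'.coeff j ∈ S) (j : ℕ) (hj : j < m) :
    (γ * γ').coeff j ∈ S := by
  obtain ⟨δ, hδ⟩ := exists_subring_lift S m γ h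
  obtain ⟨δ', hδ'⟩ := exists_subring_lift S m γ' h'
  have h1 : WittVector.truncate m (γ * γ') = WittVector.truncate m (WittVector.map S.subtype (δ * δ')) := by
    rw [map_mul, map_mul (WittVector.map S.subtype), map_mul (WittVector.truncate m), hδ, hδ']
  have h2 := congrArg (TruncatedWittVector.coeff ⟨j, hj⟩) h1
  rw [WittVector.coeff_truncate, WittVector.coeff_truncate, WittVector.map_coeff] at h2
  rw [h2]
  exact ((δ * δ').coeff j).2

variable {A B : Type u} [CommRing A] [IsDomain A] [IsIntegrallyClosed A] [CommRing B] [Algebra A B]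
  (ι : B →+* AlgebraicClosure (FractionRing A)) (hι : Function.Injective ι)
  (hιA : ∀ a, ι (algebraMap A B a) = algebraMap A (AlgebraicClosure (FractionRing A)) a)
  (hιK : ∀ b, ι b ∈ (algebraMap (FractionRing A) (AlgebraicClosure (FractionRing A))).range)
  (m : ℕ) (c : B) (t : AlgebraicClosure (FractionRing A)) (ht : t ^ p ^ (m - 1) = ι c)

include ht in
theorem pow_coeff (α : WittVector p B) (j : ℕ) (hj : j < m) :
    ((WittVector.map ι α * WittVector.teichmuller p t).coeff j) ^ p ^ (m - 1 - j) =
      ι (α.coeff j ^ p ^ (m - 1 - j) * c) := by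
  rw [coeff_mul_teichmuller, WittVector.map_coeff, mul_pow, ← pow_mul, ← pow_add,
    Nat.add_sub_cancel' (by omega), ht, map_mul, map_pow]

include hι hιA hιK ht in
theorem mem_fil_iff (α : WittVector p B) :
    WittVector.truncate m α ∈ WittFil.fil p m (A := A) c ↔
      ∀ j, j < m → (WittVector.map ι α * WittVector.teichmuller p t).coeff j ∈
        (integralClosure A (AlgebraicClosure (FractionRing A))).toSubring := by
  constructor
  · intro h j hj
    obtain ⟨a, ha⟩ := h ⟨j, hj⟩
    rw [WittVector.coeff_truncate] at ha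
    refine IsIntegral.of_pow (n := p ^ (m - 1 - j)) (pow_pos hp.out.pos _) ?_
    rw [pow_coeff ι m c t ht α j hj, ← ha, hιA]
    exact isIntegral_algebraMap
  · intro h j
    rw [WittVector.coeff_truncate]
    have h1 : IsIntegral A ((WittVector.map ι α * WittVector.teichmuller p t).coeff j) := h j j.2
    have h2 := h1.pow (p ^ (m - 1 - (j : ℕ)))
    rw [pow_coeff ι m c t ht α j j.2] at h2
    obtain ⟨q, hq⟩ := hιK (α.coeff j ^ p ^ (m - 1 - (j : ℕ)) * c)
    rw [← hq, isIntegral_algebraMap_iff (FaithfulSMul.algebraMap_injective _ _)] at h2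
    obtain ⟨a, ha⟩ := IsIntegrallyClosed.isIntegral_iff.mp h2
    refine ⟨a, hι ?_⟩
    rw [hιA, ← hq, IsScalarTower.algebraMap_apply A (FractionRing A), ha]

theorem exists_root (x : AlgebraicClosure (FractionRing A)) (q : ℕ) (hq : 0 < q) :
    ∃ t, t ^ q = x := IsAlgClosed.exists_pow_nat_eq x hq

include hι hιA hιK in
theorem sub_mem (α β : WittVector p B) (hα : WittVector.truncate m α ∈ WittFil.fil p m (A := A) c)
    (hβ : WittVector.truncate m β ∈ WittFil.fil p m (A := A) c) :
    WittVector.truncate m α - WittVector.truncate m β ∈ WittFil.fil p m (A := A) c := by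
  obtain ⟨t, ht⟩ := exists_root (ι c) _ (pow_pos hp.out.pos (m - 1))
  rw [← map_sub, mem_fil_iff ι hι hιA hιK m c t ht]
  intro j hj
  rw [map_sub, sub_mul]
  exact coeff_mem_sub _ m _ _ ((mem_fil_iff ι hι hιA hιK m c t ht α).mp hα)
    ((mem_fil_iff ι hι hιA hιK m c t ht β).mp hβ) j hj

include hι hιA hιK in
theorem mul_mem (c' : B) (α β : WittVector p B)
    (hα : WittVector.truncate m α ∈ WittFil.fil p m (A := A) c)
    (hβ : WittVector.truncate m β ∈ WittFil.fil p m (A := A) c') :
    WittVector.truncate m α * WittVector.truncate m β ∈ WittFil.fil p m (A := A) (c * c') := by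
  obtain ⟨t, ht⟩ := exists_root (ι c) _ (pow_pos hp.out.pos (m - 1))
  obtain ⟨t', ht'⟩ := exists_root (ι c') _ (pow_pos hp.out.pos (m - 1))
  have htt : (t * t') ^ p ^ (m - 1) = ι (c * c') := by rw [mul_pow, ht, ht', map_mul]
  rw [← map_mul, mem_fil_iff ι hι hιA hιK m (c * c') (t * t') htt]
  intro j hj
  rw [map_mul, map_mul, mul_mul_mul_comm]
  exact coeff_mem_mul _ m _ _ ((mem_fil_iff ι hι hιA hιK m c t ht α).mp hα)
    ((mem_fil_iff ι hι hιA hιK m c' t' ht' β).mp hβ) j hj

omit [IsIntegrallyClosed A] in
theorem exists_embedding (s : A) (hs : s ≠ 0) [IsLocalization.Away s B] :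
    ∃ ι : B →+* AlgebraicClosure (FractionRing A), Function.Injective ι ∧
      (∀ a, ι (algebraMap A B a) = algebraMap A _ a) ∧
      ∀ b, ι b ∈ (algebraMap (FractionRing A) (AlgebraicClosure (FractionRing A))).range := by
  have hu : IsUnit (algebraMap A (FractionRing A) s) :=
    ((map_ne_zero_iff _ (IsFractionRing.injective A (FractionRing A))).mpr hs).isUnit
  let g : B →+* FractionRing A := IsLocalization.Away.lift s hu
  have hg : ∀ a, g (algebraMap A B a) = algebraMap A (FractionRing A) a :=
    IsLocalization.Away.lift_eq s hu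
  refine ⟨(algebraMap (FractionRing A) _).comp g, ?_, fun a => ?_, fun b => ⟨g b, rfl⟩⟩
  · refine Function.Injective.comp (g := algebraMap (FractionRing A) (AlgebraicClosure (FractionRing A))) (RingHom.injective _) ?_
    rw [injective_iff_map_eq_zero]
    intro b hb
    obtain ⟨⟨a, s'⟩, hsa⟩ := IsLocalization.surj (Submonoid.powers s) b
    have h0 : algebraMap A (FractionRing A) a = 0 := by
      rw [← hg, ← hsa, map_mul, hb, zero_mul]
    rw [(map_eq_zero_iff _ (IsFractionRing.injective A (FractionRing A))).mp h0, map_zero] at hsa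
    exact ((IsLocalization.map_units B s').mul_left_eq_zero).mp hsa
  · rw [RingHom.comp_apply, hg, ← IsScalarTower.algebraMap_apply]

end Groth.Agent.H83.WittFilLib
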